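import Cfsg.Agent.H90.RuL.ChkDef

/-! Images under a matrix (generated, owner: helper90). -/

set_option autoImplicit false
set_option maxRecDepth 1000000

namespace Cfsg.Agent.H90.RuL

open Cfsg.Spor Finset Cfsg.Agent.CosetEnum

theorem ckE1_0 : allN (eqvI CM1 KF1 1) 0 507 = true := by decide +kernel

theorem ckE1_1 : allN (eqvI CM1 KF1 1) 507 507 = true := by decide +kernel

theorem ckE1_2 : allN (eqvI CM1 KF1 1) 1014 507 = true := by decide +kernel

theorem ckE1_3 : allN (eqvI CM1 KF1 1) 1521 507 = true := by decide +kernel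

theorem ckE1_4 : allN (eqvI CM1 KF1 1) 2028 507 = true := by decide +kernel

theorem ckE1_5 : allN (eqvI CM1 KF1 1) 2535 507 = true := by decide +kernel

theorem ckE1_6 : allN (eqvI CM1 KF1 1) 3042 507 = true := by decide +kernel

theorem ckE1_7 : allN (eqvI CM1 KF1 1) 3549 511 = true := by decide +kernel

theorem ckE1 : Tr (eqvI CM1 KF1 1) 0 4060 := by
  have h0 : Tr (eqvI CM1 KF1 1) 0 507 := Tr.of ckE1_0 (by norm_num)
  have h1 : Tr (eqvI CM1 KF1 1) 507 1014 := Tr.of ckE1_1 (by norm_num)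
  have h2 : Tr (eqvI CM1 KF1 1) 1014 1521 := Tr.of ckE1_2 (by norm_num)
  have h3 : Tr (eqvI CM1 KF1 1) 1521 2028 := Tr.of ckE1_3 (by norm_num)
  have h4 : Tr (eqvI CM1 KF1 1) 2028 2535 := Tr.of ckE1_4 (by norm_num)
  have h5 : Tr (eqvI CM1 KF1 1) 2535 3042 := Tr.of ckE1_5 (by norm_num)
  have h6 : Tr (eqvI CM1 KF1 1) 3042 3549 := Tr.of ckE1_6 (by norm_num)
  have h7 : Tr (eqvI CM1 KF1 1) 3549 4060 := Tr.of ckE1_7 (by norm_num)
  exact (((((((h0.trans h1).trans h2).trans h3).trans h4).trans h5).trans h6).trans h7)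

end Cfsg.Agent.H90.RuL
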