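import Cfsg.Agent.H90.RuL.ChkDef

/-! Matrices and functionals (generated, owner: helper90). -/

set_option autoImplicit false
set_option maxRecDepth 1000000

namespace Cfsg.Agent.H90.RuL

open Cfsg.Spor Finset Cfsg.Agent.CosetEnum

theorem mat1 : MatOK MC1 CM1 KF1 where
  lin := ⟨by decide +kernel, by decide +kernel, by decide +kernel⟩
  orth := by decide +kernel
  comm := by decide +kernel

theorem mat3 : MatOK MC3 CM3 KF3 where
  lin := ⟨by decide +kernel, by decide +kernel, by decide +kernel⟩
  orth := by decide +kernel
  comm := by decide +kernel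

theorem mat5 : MatOK MC5 CM5 KF5 where
  lin := ⟨by decide +kernel, by decide +kernel, by decide +kernel⟩
  orth := by decide +kernel
  comm := by decide +kernel

theorem lin0 : Lin PU0 KU0 pkf4 (MM : ℤ) := ⟨by decide +kernel, by decide +kernel, by decide +kernel⟩

theorem lin1 : Lin PU1 KU1 (it pkf4) (MM : ℤ) := ⟨by decide +kernel, by decide +kernel, by decide +kernel⟩

theorem linA : Lin RA KA Rf (NN : ℤ) := ⟨by decide +kernel, by decide +kernel, by decide +kernel⟩

theorem linB : Lin RB KB (it Rf) (NN : ℤ) := ⟨by decide +kernel, by decide +kernel, by decide +kernel⟩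

end Cfsg.Agent.H90.RuL
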