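import Cfsg.Agent.H90.RuL.ChkDef

/-! Small checks (generated, owner: helper90). -/

set_option autoImplicit false
set_option maxRecDepth 1000000

namespace Cfsg.Agent.H90.RuL

open Cfsg.Spor Finset Cfsg.Agent.CosetEnum

theorem frC : ∀ p < 28, FI.getD p 0 < 4060 ∧ ∀ j < 56, vf (rowV PV (FI.getD p 0)) j = if j = 2 * p then -4 else 0 := by
  decide +kernel

/-- residues of an operated function -/
def rwg : List ℕ → (ℕ → ℕ) → ℕ → ℕ
  | [], r, i => r i
  | o :: w, r, i => bif sg o i then 3 * rwg w r (pm o i) else rwg w r (pm o i)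

theorem ULc : (List.zip UR UL).all (fun p => decide (p.2.1 < 4060) &&
    allN (fun i => Nat.beq ((rwg (List.replicate p.2.2 0) (dq (rowV PV p.2.1)) i + 3 * dg p.1 i) % 4) 0) 0 56) = true := by
  decide +kernel

theorem ELc : (List.zip ER EL).all (fun p => decide (p.2.1 < 4060) &&
    (fun S => allN (fun i => Nat.beq ((rwg (List.replicate p.2.2.1 0) (dq (rowV PV p.2.1)) i + 3 * (dg p.1 i + dg S i)) % 4) 0) 0 56)
      (comb UR p.2.2.2)) = true := by
  decide +kernel

theorem lenUL : UR.length ≤ UL.length := by decide +kernel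

theorem lenEL : ER.length ≤ EL.length := by decide +kernel

theorem TGc : ∀ t ∈ TG, t.2.1 ∣ NN ∧ t.2.2 < t.2.1 ∧ t.1 < 4060 ∧ ea (rowV PV t.1) % t.2.1 = t.2.2 := by decide +kernel

theorem BIc : ∀ l < 10, BI.getD l 0 < 4060 := by decide +kernel

theorem ptc1 : 0x100000000 ∣ NN ∧ 0x4 < 0x100000000 ∧ ea (rowV PV (BI.getD 1 0)) % 0x100000000 = 0x4 := by decide +kernel

theorem mod1 : 0x100000000 = 2 ^ (32 * 1) := by decide +kernel

theorem ptc2 : 0x10000000000000000 ∣ NN ∧ 0x400000000 < 0x10000000000000000 ∧ ea (rowV PV (BI.getD 2 0)) % 0x10000000000000000 = 0x400000000 := by decide +kernel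

theorem mod2 : 0x10000000000000000 = 2 ^ (32 * 2) := by decide +kernel

theorem ptc3 : 0x1000000000000000000000000 ∣ NN ∧ 0x3fffffffffffc00000004 < 0x1000000000000000000000000 ∧ ea (rowV PV (BI.getD 3 0)) % 0x1000000000000000000000000 = 0x3fffffffffffc00000004 := by decide +kernel

theorem mod3 : 0x1000000000000000000000000 = 2 ^ (32 * 3) := by decide +kernel

theorem ptc4 : 0x100000000000000000000000000000000 ∣ NN ∧ 0xfffffffbfffffffc0000000400000004 < 0x100000000000000000000000000000000 ∧ ea (rowV PV (BI.getD 4 0)) % 0x100000000000000000000000000000000 = 0xfffffffbfffffffc0000000400000004 := by decide +kernel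

theorem mod4 : 0x100000000000000000000000000000000 = 2 ^ (32 * 4) := by decide +kernel

theorem TG5 : ∀ k < 5, (TG.getD k (0, 0, 0)).1 = BI.getD (5 + k) 0 ∧ (TG.getD k (0, 0, 0)).2.1 = 2 ^ (32 * (5 + k)) := by decide +kernel

theorem TG28 : ∀ p < 28, (TG.getD (5 + p) (0, 0, 0)).1 = FI.getD p 0 ∧ (TG.getD (5 + p) (0, 0, 0)).2.1 = 2 ^ 320 := by decide +kernel

theorem lenTG : TG.length = 33 := by decide +kernel

end Cfsg.Agent.H90.RuL
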