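import Cfsg.Agent.H90.RuL.ChkDef

/-! Membership and norms (generated, owner: helper90). -/

set_option autoImplicit false
set_option maxRecDepth 1000000

namespace Cfsg.Agent.H90.RuL

open Cfsg.Spor Finset Cfsg.Agent.CosetEnum

theorem ckV_0 : allN chkV 0 1015 = true := by decide +kernel

theorem ckV_1 : allN chkV 1015 1015 = true := by decide +kernel

theorem ckV_2 : allN chkV 2030 1015 = true := by decide +kernel

theorem ckV_3 : allN chkV 3045 1015 = true := by decide +kernel

theorem ckV : Tr chkV 0 4060 := by
  have h0 : Tr chkV 0 1015 := Tr.of ckV_0 (by norm_num)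
  have h1 : Tr chkV 1015 2030 := Tr.of ckV_1 (by norm_num)
  have h2 : Tr chkV 2030 3045 := Tr.of ckV_2 (by norm_num)
  have h3 : Tr chkV 3045 4060 := Tr.of ckV_3 (by norm_num)
  exact (((h0.trans h1).trans h2).trans h3)

end Cfsg.Agent.H90.RuL
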