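import Cfsg.Agent.H90.RuL.Min
import Cfsg.Agent.H90.RuL.CkS
import Cfsg.Agent.H90.RuL.CkM
import Cfsg.Agent.H90.RuL.CkV
import Cfsg.Agent.H90.RuL.CkE1
import Cfsg.Agent.H90.RuL.CkE3
import Cfsg.Agent.H90.RuL.CkE5

/-!
Automorphisms of the lattice from matrices (owner: helper90).
-/

set_option autoImplicit false
set_option linter.unusedSimpArgs false
set_option maxHeartbeats 400000

namespace Cfsg.Agent.H90.RuL

open Cfsg.Spor Finset Cfsg.Agent.CosetEnum

theorem vj_L (j : Fin 4060) : vj j ∈ ruLattice := chkW_mem (chkV_w (ckV j (Nat.zero_le _) j.2))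

theorem vj_norm (j : Fin 4060) : ruNorm (vj j) = 16 := chkW_norm (chkV_w (ckV j (Nat.zero_le _) j.2))

theorem vj_ne (j : Fin 4060) (hj : (j : ℕ) ≠ 2770) : cd (vj j) 0 ≠ 4 ∧ cd (vj j) 0 ≠ -4 :=
  chkW_ne (chkV_w (ckV j (Nat.zero_le _) j.2)) hj

/-- vector of the table in the lattice -/
noncomputable def VL (j : Fin 4060) : ruLattice := ⟨vj j, vj_L j⟩

/-- the minimal vectors of the table -/
def BB : Set RuVec := {x | ∃ (u : ℕ) (j : Fin 4060), x = un u (vj j)}

/-- functions whose vector is in the closure -/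
def AF : AddSubgroup (ℕ → ℤ) where
  carrier := {f | mkV f ∈ AddSubgroup.closure BB}
  zero_mem' := by
    show mkV 0 ∈ AddSubgroup.closure BB
    rw [show mkV 0 = 0 from cd_ext fun i hi => by rw [cd_mkV _ hi, cd_zero]; rfl]
    exact zero_mem _
  add_mem' := fun {a b} ha hb => by
    show mkV (a + b) ∈ AddSubgroup.closure BB
    rw [show mkV (a + b) = mkV a + mkV b from cd_ext fun i hi => by
      rw [cd_add, cd_mkV _ hi, cd_mkV _ hi, cd_mkV _ hi]; rfl]
    exact add_mem ha hb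
  neg_mem' := fun {a} ha => by
    show mkV (-a) ∈ AddSubgroup.closure BB
    rw [show mkV (-a) = -mkV a from cd_ext fun i hi => by
      rw [cd_neg, cd_mkV _ hi, cd_mkV _ hi]; rfl]
    exact neg_mem ha

theorem cd_AF {x : RuVec} (hx : x ∈ AddSubgroup.closure BB) : cd x ∈ AF := by
  show mkV (cd x) ∈ AddSubgroup.closure BB
  rw [mkV_cd]
  exact hx

theorem AF_congr {f g : ℕ → ℤ} (hf : f ∈ AF) (h : ∀ i < 56, g i = f i) : g ∈ AF := by
  show mkV g ∈ AddSubgroup.closure BB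
  rw [show mkV g = mkV f from cd_ext fun i hi => by rw [cd_mkV _ hi, cd_mkV _ hi, h i hi]]
  exact hf

theorem BB_mem (u : ℕ) (j : Fin 4060) : un u (vj j) ∈ AddSubgroup.closure BB := AddSubgroup.subset_closure ⟨u, j, rfl⟩

theorem frV {p : ℕ} (hp : p < 28) : ∃ j : Fin 4060, (j : ℕ) = FI.getD p 0 ∧ ∀ i < 56, cd (vj j) i = if i = 2 * p then -4 else 0 := by
  obtain ⟨h1, h2⟩ := frC p hp
  refine ⟨⟨FI.getD p 0, h1⟩, rfl, fun i hi => ?_⟩
  rw [← h2 i hi]
  exact cd_vv _ hi

theorem cd_un1 (x : RuVec) {i : ℕ} (hi : i < 56) : cd (un 1 x) i = sv (sg 0 i) (cd x (pm 0 i)) := cd_op 0 (by norm_num) x hi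

theorem cd_un3 {v : RuVec} {p : ℕ} (hv : ∀ i < 56, cd v i = if i = 2 * p then -4 else 0) {i : ℕ} (hi : i < 56) :
    cd (un 3 v) i = if i = 2 * p + 1 then 4 else 0 := by
  rw [show 3 = 2 + 1 from rfl, un_add, un_two, cd_neg, cd_un1 _ hi, hv _ (pm_lt (by norm_num) hi)]
  have hp0 : pm 0 i = if i % 2 = 0 then i + 1 else i - 1 := rfl
  have hs0 : sg 0 i = (i % 2 == 0) := rfl
  rcases Nat.mod_two_eq_zero_or_one i with h3 | h3
  · rw [hp0, if_pos h3, if_neg (show ¬ (i + 1 = 2 * p) by omega), if_neg (show ¬ (i = 2 * p + 1) by omega)]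
    unfold sv
    split_ifs <;> simp
  · have hs1 : sg 0 i = false := by rw [hs0, h3]; rfl
    rw [hp0, if_neg (show ¬ (i % 2 = 0) by omega), hs1]
    unfold sv
    rw [if_neg (show ¬ (false = true) by decide)]
    by_cases h : i = 2 * p + 1
    · rw [if_pos (show i - 1 = 2 * p by omega), if_pos h]; norm_num
    · rw [if_neg (show ¬ (i - 1 = 2 * p) by omega), if_neg h]; norm_num

theorem four_un {j : ℕ} (hj : j < 56) {v : Fin 4060} (hv : ∀ i < 56, cd (vj v) i = if i = 2 * (j / 2) then -4 else 0) :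
    ∃ u, ∀ i < 56, (if i = j then (4 : ℤ) else 0) = cd (un u (vj v)) i := by
  rcases Nat.mod_two_eq_zero_or_one j with h | h
  · refine ⟨2, fun i hi => ?_⟩
    rw [un_two, cd_neg, hv i hi]
    by_cases hij : i = j
    · rw [if_pos hij, if_pos (by omega)]; norm_num
    · rw [if_neg hij, if_neg (by omega)]; norm_num
  · refine ⟨3, fun i hi => ?_⟩
    rw [cd_un3 hv hi]
    by_cases hij : i = j
    · rw [if_pos hij, if_pos (by omega)]
    · rw [if_neg hij, if_neg (by omega)]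

theorem four_AF {j : ℕ} (hj : j < 56) : (fun i => if i = j then (4 : ℤ) else 0) ∈ AF := by
  obtain ⟨v, hv0, hv⟩ := frV (p := j / 2) (by omega)
  obtain ⟨u, hu⟩ := four_un hj hv
  exact AF_congr (cd_AF (BB_mem u v)) hu

theorem D4_AF : D4 ≤ AF := by
  intro f hf
  have h1 : (∑ j ∈ range 56, (f j / 4) • (fun i => if i = j then (4 : ℤ) else 0)) ∈ AF :=
    sum_mem fun j hj => zsmul_mem (four_AF (mem_range.1 hj)) _
  refine AF_congr h1 fun i hi => ?_
  rw [Finset.sum_apply, Finset.sum_eq_single i]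
  · have := hf i hi
    simp
    omega
  · intro j _ hj
    simp [Ne.symm hj]
  · intro h
    exact absurd (mem_range.2 hi) h

theorem rwg_mod {w : List ℕ} (hw : ∀ o ∈ w, o < 5) {x : RuVec} {r : ℕ → ℕ} (hx : ∀ i < 56, (cd x i - r i) % 4 = 0)
    {i : ℕ} (hi : i < 56) : (cd (opw w x) i - rwg w r i) % 4 = 0 := by
  induction w generalizing i with
  | nil => exact hx i hi
  | cons o w ih =>
    have ho := hw o (by simp)
    have h := ih (fun a ha => hw a (by simp [ha])) (pm_lt ho hi)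
    show (cd (op o (opw w x)) i - _) % 4 = 0
    rw [cd_op o ho _ hi]
    unfold rwg sv
    cases sg o i
    · simpa using h
    · simp only [if_true, cond_true]
      push_cast
      omega

theorem un_mod4 (u : ℕ) (j : Fin 4060) {i : ℕ} (hi : i < 56) :
    (cd (un u (vj j)) i - rwg (List.replicate u 0) (dq (rowV PV j)) i) % 4 = 0 := by
  refine rwg_mod (fun o ho => ?_) (fun i hi => ?_) hi
  · rw [(List.mem_replicate.1 ho).2]; norm_num
  · have h : cd (vj j) i = vf (rowV PV j) i := cd_vv _ hi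
    rw [h]
    unfold vf
    omega

theorem U_AF {N : ℕ} (hN : N ∈ UR) : rowf N ∈ AF := by
  obtain ⟨⟨t, u⟩, hq⟩ := zip_mem lenUL hN
  have h1 := List.all_eq_true.1 ULc _ hq
  simp only [Bool.and_eq_true, decide_eq_true_eq] at h1
  obtain ⟨h2, h4⟩ := h1
  have h6 : cd (un u (vj t)) ∈ AF := cd_AF (BB_mem u ⟨t, h2⟩)
  have h7 : rowf N = cd (un u (vj t)) + (rowf N - cd (un u (vj t))) := by abel
  rw [h7]
  refine add_mem h6 (D4_AF fun i hi => ?_)
  have h8 : (cd (un u (vj t)) i - rwg (List.replicate u 0) (dq (rowV PV t)) i) % 4 = 0 := un_mod4 u ⟨t, h2⟩ hi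
  have h9 := Nat.eq_of_beq_eq_true (allN_sound h4 i (Nat.zero_le _) (by omega))
  show (4 : ℤ) ∣ (dg N i : ℤ) - cd (un u (vj t)) i
  have h10 : ((rwg (List.replicate u 0) (dq (rowV PV t)) i + 3 * dg N i : ℕ) : ℤ) % 4 = 0 := by exact_mod_cast h9
  push_cast at h10
  omega

theorem TU_AF : T UR ≤ AF := T_le (fun _ hN => U_AF hN) D4_AF

theorem E_AF {N : ℕ} (hN : N ∈ ER) : rowf N ∈ AF := by
  obtain ⟨⟨t, u, q⟩, hq⟩ := zip_mem lenEL hN
  have h1 := List.all_eq_true.1 ELc _ hq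
  simp only [Bool.and_eq_true, decide_eq_true_eq] at h1
  obtain ⟨h2, h4⟩ := h1
  have h6 : cd (un u (vj t)) ∈ AF := cd_AF (BB_mem u ⟨t, h2⟩)
  have h11 : (fun j => (cdg UR q j : ℤ)) ∈ AF := TU_AF (cdg_mem UR q)
  have h7 : rowf N = (cd (un u (vj t)) - fun j => (cdg UR q j : ℤ)) +
      (rowf N - (cd (un u (vj t)) - fun j => (cdg UR q j : ℤ))) := by abel
  rw [h7]
  refine add_mem (sub_mem h6 h11) (D4_AF fun i hi => ?_)
  have h8 : (cd (un u (vj t)) i - rwg (List.replicate u 0) (dq (rowV PV t)) i) % 4 = 0 := un_mod4 u ⟨t, h2⟩ hi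
  have h9 := Nat.eq_of_beq_eq_true (allN_sound h4 i (Nat.zero_le _) (by omega))
  rw [dg_comb okUR lenUR q hi] at h9
  show (4 : ℤ) ∣ (dg N i : ℤ) - (cd (un u (vj t)) i - (cdg UR q i : ℤ))
  have h10 : ((rwg (List.replicate u 0) (dq (rowV PV t)) i + 3 * (dg N i + cdg UR q i) : ℕ) : ℤ) % 4 = 0 := by exact_mod_cast h9
  push_cast at h10
  omega

theorem T_AF : T ROWS ≤ AF := T_le (fun N hN => by
  rcases List.mem_append.1 hN with h | h
  · exact U_AF h
  · exact E_AF h) D4_AF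

/-- **the lattice is generated by the vectors of the table** -/
theorem L_closure {x : RuVec} (hx : x ∈ ruLattice) : x ∈ AddSubgroup.closure BB := by
  have h := T_AF (mem_L.1 hx)
  have h2 : mkV (cd x) ∈ AddSubgroup.closure BB := h
  rwa [mkV_cd] at h2

theorem smul4_inj {a b : RuVec} (h : (4 : ℤ) • a = (4 : ℤ) • b) : a = b := by
  refine cd_ext fun i _ => ?_
  have h1 := congrArg (fun x => cd x i) h
  simp only [cd_zsmul] at h1
  omega

theorem un_Phi {MC CM : List ℕ} {KF : ℕ} (h : MatOK MC CM KF) (u : ℕ) (x : RuVec) : Phi MC (un u x) = un u (Phi MC x) := by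
  induction u with
  | zero => rfl
  | succ n ih => rw [un_succ, h.I, ih, un_succ]

theorem norm_smul4 (x : RuVec) : ruNorm ((4 : ℤ) • x) = 16 * ruNorm x := by
  rw [← dt_eq, ← dt_eq]
  unfold dt
  rw [mul_sum]
  exact sum_congr rfl fun i _ => by rw [cd_zsmul]; ring

theorem exists_aut {MC CM : List ℕ} {KF : ℕ} (h : MatOK MC CM KF) {p : Fin 4060 → Fin 4060} (hp : Function.Surjective p)
    (hm : ∀ i : Fin 4060, ∃ u, Phi MC (vj i) = (4 : ℤ) • un u (vj (p i))) :
    ∃ g : fourRu, ∀ i : Fin 4060, ∃ u, (((g : Equiv.Perm ruLattice) (VL i) : ruLattice) : RuVec) = un u (vj (p i)) := by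
  have key : ∀ x : ruLattice, ∃ y : ruLattice, Phi MC x = (4 : ℤ) • (y : RuVec) := by
    rintro ⟨x, hx⟩
    have h1 := L_closure hx
    induction h1 using AddSubgroup.closure_induction with
    | mem x hxB =>
      obtain ⟨u, j, rfl⟩ := hxB
      obtain ⟨v, hv⟩ := hm j
      refine ⟨⟨un u (un v (vj (p j))), un_L _ (un_L _ (vj_L _))⟩, ?_⟩
      show Phi MC (un u (vj j)) = _
      rw [un_Phi h, hv, un_smul4]
    | zero => exact ⟨0, by show Phi MC 0 = _; rw [Phi_zero]; simp⟩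
    | add x y hx1 hy1 ihx ihy =>
      have hxL : x ∈ ruLattice := (AddSubgroup.closure_le ruLattice).2 (by
        rintro _ ⟨u, j, rfl⟩; exact un_L _ (vj_L _)) hx1
      have hyL : y ∈ ruLattice := (AddSubgroup.closure_le ruLattice).2 (by
        rintro _ ⟨u, j, rfl⟩; exact un_L _ (vj_L _)) hy1
      obtain ⟨a, ha⟩ := ihx hxL
      obtain ⟨b, hb⟩ := ihy hyL
      refine ⟨a + b, ?_⟩
      show Phi MC (x + y) = _
      have ha' : Phi MC x = (4 : ℤ) • (a : RuVec) := ha
      have hb' : Phi MC y = (4 : ℤ) • (b : RuVec) := hb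
      rw [Phi_add, ha', hb', AddSubgroup.coe_add, smul_add]
    | neg x hx1 ihx =>
      have hxL : x ∈ ruLattice := (AddSubgroup.closure_le ruLattice).2 (by
        rintro _ ⟨u, j, rfl⟩; exact un_L _ (vj_L _)) hx1
      obtain ⟨a, ha⟩ := ihx hxL
      refine ⟨-a, ?_⟩
      show Phi MC (-x) = _
      have ha' : Phi MC x = (4 : ℤ) • (a : RuVec) := ha
      rw [Phi_neg, ha', NegMemClass.coe_neg, smul_neg]
  choose φ hφ using key
  have hadd : ∀ x y : ruLattice, φ (x + y) = φ x + φ y := by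
    intro x y
    apply Subtype.ext
    apply smul4_inj
    rw [← hφ, AddSubgroup.coe_add, AddSubgroup.coe_add, smul_add, ← hφ, ← hφ, Phi_add]
  have hI : ∀ x : ruLattice, φ (ruI x) = ruI (φ x) := by
    intro x
    apply Subtype.ext
    apply smul4_inj
    rw [← hφ]
    show Phi MC (gI • (x : RuVec)) = (4 : ℤ) • gI • (φ x : RuVec)
    rw [h.I, hφ, smul_comm]
  have hN : ∀ x : ruLattice, ruNorm (φ x : RuVec) = ruNorm (x : RuVec) := by
    intro x
    have h1 := h.rip (x : RuVec) x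
    rw [dt_eq, dt_eq, hφ, norm_smul4] at h1
    omega
  have hinj : Function.Injective φ := by
    intro x y hxy
    have h1 : φ (x - y) = 0 := by
      have h2 := hadd (x - y) y
      rw [sub_add_cancel, hxy] at h2
      exact add_eq_right.1 h2.symm
    have h2 := hN (x - y)
    rw [h1] at h2
    have h3 : ruNorm ((0 : ruLattice) : RuVec) = 0 := by
      show ruNorm (0 : RuVec) = 0
      rw [← dt_eq]
      exact sum_eq_zero fun i _ => by rw [cd_zero, mul_zero]
    rw [h3] at h2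
    have h4 := norm_zero h2.symm
    exact sub_eq_zero.1 (Subtype.ext h4)
  have hun : ∀ (u : ℕ) (x y : ruLattice), (y : RuVec) = un u x → (φ y : RuVec) = un u (φ x) := by
    intro u x y hxy
    apply smul4_inj
    rw [← hφ, hxy, un_Phi h, hφ, un_smul4]
  have hsurj : Function.Surjective φ := by
    rintro ⟨y, hy⟩
    have h1 := L_closure hy
    induction h1 using AddSubgroup.closure_induction with
    | mem y hyB =>
      obtain ⟨u, j, rfl⟩ := hyB
      obtain ⟨i, rfl⟩ := hp j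
      obtain ⟨v, hv⟩ := hm i
      have h2 : (φ (VL i) : RuVec) = un v (vj (p i)) := by
        apply smul4_inj
        rw [← hφ]
        exact hv
      refine ⟨⟨un (u + 3 * v) (vj i), un_L _ (vj_L _)⟩, Subtype.ext ?_⟩
      rw [hun (u + 3 * v) (VL i) _ rfl, h2, ← un_add]
      show _ = un u _
      rw [un_mod, un_mod u]
      congr 1
      omega
    | zero =>
      refine ⟨0, ?_⟩
      have h2 := hadd 0 0
      rw [add_zero] at h2
      exact (left_eq_add.1 h2)
    | add x y hx1 hy1 ihx ihy =>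
      have hxL : x ∈ ruLattice := (AddSubgroup.closure_le ruLattice).2 (by
        rintro _ ⟨u, j, rfl⟩; exact un_L _ (vj_L _)) hx1
      have hyL : y ∈ ruLattice := (AddSubgroup.closure_le ruLattice).2 (by
        rintro _ ⟨u, j, rfl⟩; exact un_L _ (vj_L _)) hy1
      obtain ⟨a, ha⟩ := ihx hxL
      obtain ⟨b, hb⟩ := ihy hyL
      refine ⟨a + b, ?_⟩
      rw [hadd, ha, hb]
      rfl
    | neg x hx1 ihx =>
      have hxL : x ∈ ruLattice := (AddSubgroup.closure_le ruLattice).2 (by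
        rintro _ ⟨u, j, rfl⟩; exact un_L _ (vj_L _)) hx1
      obtain ⟨a, ha⟩ := ihx hxL
      refine ⟨-a, ?_⟩
      have h2 := hadd (-a) a
      rw [neg_add_cancel] at h2
      have h0 := hadd 0 0
      rw [add_zero] at h0
      rw [left_eq_add.1 h0, ha] at h2
      rw [eq_neg_of_add_eq_zero_left h2.symm]
      rfl
  refine ⟨⟨Equiv.ofBijective φ ⟨hinj, hsurj⟩, hadd, hI, hN⟩, fun i => ?_⟩
  obtain ⟨v, hv⟩ := hm i
  refine ⟨v, ?_⟩
  apply smul4_inj
  show (4 : ℤ) • (φ (VL i) : RuVec) = _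
  rw [← hφ]
  exact hv

theorem img {MC CM : List ℕ} {KF x : ℕ} (h : Lin CM KF (rhoC MC) (MM : ℤ)) (hc : Tr (eqvI CM KF x) 0 4060) (i : Fin 4060) :
    ∃ u, Phi MC (vj i) = (4 : ℤ) • un u (vj (act SiftRu.P x i)) :=
  eqv_sound h lin0 lin1 (eqvI_w (hc i (Nat.zero_le _) i.2))

end Cfsg.Agent.H90.RuL
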