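import Cfsg.Agent.H90.RuL.ChkDef

/-! Second coordinates (owner: helper90). -/

set_option autoImplicit false
set_option maxRecDepth 1000000

namespace Cfsg.Agent.H90.RuL

open Cfsg.Spor Finset Cfsg.Agent.CosetEnum

/-- test of the second coordinate -/
noncomputable def c1 (j : Nat) : Bool := is0 j (ds (dq (rowV PV j) 1))

theorem ckT_0 : allN c1 0 2000 = true := by decide +kernel

theorem ckT_1 : allN c1 2000 2060 = true := by decide +kernel

theorem ckT : Tr c1 0 4060 := by
  have h0 : Tr c1 0 2000 := Tr.of ckT_0 (by norm_num)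
  have h1 : Tr c1 2000 4060 := Tr.of ckT_1 (by norm_num)
  exact h0.trans h1

theorem ne1 {j : ℕ} (hj : j < 4060) (h : j ≠ 2770) : cd (vj j) 1 ≠ 4 ∧ cd (vj j) 1 ≠ -4 := by
  have h1 := ds_sound (is0_sound (ckT j (Nat.zero_le _) hj) h)
  have h2 : cd (vj j) 1 = vf (rowV PV j) 1 := cd_vv _ (by norm_num)
  rw [h2]
  obtain ⟨h3, h4⟩ := h1
  unfold vf
  constructor <;> omega

end Cfsg.Agent.H90.RuL
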