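import Cfsg.Agent.H90.RuL.Aut1
import Cfsg.Agent.H90.RuL.CkT

/-!
The action of the lattice automorphism group on the 4060 lines (owner: helper90).
-/

set_option autoImplicit false
set_option linter.unusedSimpArgs false
set_option maxHeartbeats 400000

namespace Cfsg.Agent.H90.RuL

open Cfsg.Spor Finset Cfsg.Agent.CosetEnum

/-- equality of lines -/
def RR (i j : Fin 4060) : Prop := ∃ u, vj i = un u (vj j)

theorem un_cancel {u v : ℕ} {x y : RuVec} (h : un u x = un v y) : x = un (v + 3 * u) y := by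
  have h1 := congrArg (un (3 * u)) h
  rw [← un_add, ← un_add, show 3 * u + u = 4 * u by ring, un_mod, show 4 * u % 4 = 0 by omega, un_zero] at h1
  rw [h1, add_comm]

theorem un_step {u v w : ℕ} {x y : RuVec} (h : un u x = un v (un w y)) : x = un (v + w + 3 * u) y :=
  un_cancel (by rw [h, un_add])

theorem RR_step {MC CM : List ℕ} {KF : ℕ} (h : MatOK MC CM KF) {p : Fin 4060 → Fin 4060}
    (hm : ∀ i : Fin 4060, ∃ u, Phi MC (vj i) = (4 : ℤ) • un u (vj (p i))) {i j : Fin 4060} (hR : RR i j) : RR (p i) (p j) := by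
  obtain ⟨u, hu⟩ := hR
  obtain ⟨a, ha⟩ := hm i
  obtain ⟨b, hb⟩ := hm j
  have h1 := congrArg (Phi MC) hu
  rw [un_Phi h, ha, hb, un_smul4] at h1
  exact ⟨_, un_step (smul4_inj h1)⟩

/-- the frame point -/
def i0 : Fin 4060 := ⟨2770, by norm_num⟩

theorem i0_cd : ∀ i < 56, cd (vj i0) i = if i = 0 then -4 else 0 := by
  obtain ⟨j, h1, h2⟩ := frV (p := 0) (by norm_num)
  have h3 : j = i0 := by
    apply Fin.ext
    rw [h1]
    decide +kernel
  rw [h3] at h2
  intro i hi
  rw [h2 i hi]

theorem RR_symm {i j : Fin 4060} (h : RR i j) : RR j i := by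
  obtain ⟨u, hu⟩ := h
  exact ⟨0 + 3 * u, un_cancel (by rw [← hu, un_zero])⟩

theorem RR_i0 {j : Fin 4060} (h : RR i0 j) : j = i0 := by
  by_contra hne
  have hj : (j : ℕ) ≠ 2770 := fun hc => hne (Fin.ext hc)
  obtain ⟨h1, h2⟩ := vj_ne j hj
  obtain ⟨h3, h4⟩ := ne1 j.2 hj
  obtain ⟨u, hu⟩ := RR_symm h
  have hv : cd (vj i0) 0 = -4 := i0_cd 0 (by norm_num)
  have h11 : cd (un 1 (vj i0)) 1 = -4 := by
    rw [cd_un1 _ (by norm_num), show pm 0 1 = 0 from by decide, show sg 0 1 = false from by decide, hv]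
    rfl
  rw [un_mod] at hu
  rcases (by omega : u % 4 = 0 ∨ u % 4 = 1 ∨ u % 4 = 2 ∨ u % 4 = 3) with h | h | h | h <;> rw [h] at hu
  · exact h2 (by rw [hu, un_zero, hv])
  · exact h4 (by rw [hu, h11])
  · exact h1 (by rw [hu, un_two, cd_neg, hv, neg_neg])
  · exact h3 (by rw [hu, show 3 = 2 + 1 from rfl, un_add, un_two, cd_neg, h11, neg_neg])

/-- a finite group: a property of pairs preserved by generators is preserved by all elements -/
theorem pres {H : Type} [Group H] [Finite H] [MulAction H (Fin 4060)] {S : Set H} (hS : Subgroup.closure S = ⊤)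
    (h : ∀ g ∈ S, ∀ i j : Fin 4060, RR i j → RR (g⁻¹ • i) (g⁻¹ • j)) (g : H) {i j : Fin 4060} (hR : RR i j) :
    RR (g • i) (g • j) := by
  have hg : g ∈ Subgroup.closure S := by rw [hS]; trivial
  have hinv : ∀ x : H, (∀ i j : Fin 4060, RR i j → RR (x • i) (x • j)) → ∀ i j : Fin 4060, RR i j → RR (x⁻¹ • i) (x⁻¹ • j) := by
    intro x hx
    have hp : ∀ n : ℕ, ∀ i j : Fin 4060, RR i j → RR (x ^ n • i) (x ^ n • j) := by
      intro n
      induction n with
      | zero => intro i j h; rw [pow_zero, one_smul, one_smul]; exact h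
      | succ n ih =>
        intro i j h
        rw [pow_succ', mul_smul, mul_smul]
        exact hx _ _ (ih i j h)
    obtain ⟨m, hm⟩ : ∃ m, orderOf x = m + 1 := ⟨orderOf x - 1, by have := orderOf_pos x; omega⟩
    have h1 : x ^ m = x⁻¹ := by
      apply eq_inv_of_mul_eq_one_left
      rw [← pow_succ, ← hm]
      exact pow_orderOf_eq_one x
    rw [← h1]
    exact hp m
  have hall : ∀ x ∈ Subgroup.closure S, ∀ i j : Fin 4060, RR i j → RR (x • i) (x • j) := by
    intro x hx
    induction hx using Subgroup.closure_induction with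
    | mem x hx =>
      have := hinv x⁻¹ (h x hx)
      rwa [inv_inv] at this
    | one => intro i j h; rw [one_smul, one_smul]; exact h
    | mul x y _ _ hx hy =>
      intro i j h
      rw [mul_smul, mul_smul]
      exact hx _ _ (hy _ _ h)
    | inv x _ hx => exact hinv x hx
  exact hall g hg i j hR

theorem un_fix {k : ℕ} {x : RuVec} (h : un k x = x) (hx : x ≠ 0) : k % 4 = 0 := by
  have h2 : un 2 x = x → False := by
    intro h2
    rw [un_two] at h2
    apply hx
    refine cd_ext fun i _ => ?_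
    have := congrArg (fun z => cd z i) h2
    simp only [cd_neg] at this
    rw [cd_zero]
    omega
  rw [un_mod] at h
  rcases (by omega : k % 4 = 0 ∨ k % 4 = 1 ∨ k % 4 = 2 ∨ k % 4 = 3) with h1 | h1 | h1 | h1
  · exact h1
  · exfalso
    rw [h1] at h
    apply h2
    rw [show 2 = 1 + 1 from rfl, un_add, h, h]
  · exfalso
    rw [h1] at h
    exact h2 h
  · exfalso
    rw [h1] at h
    apply h2
    have h3 : un 6 x = x := by rw [show 6 = 3 + 3 from rfl, un_add, h, h]
    rwa [un_mod] at h3

theorem vj_ne0 (j : Fin 4060) : vj j ≠ 0 := by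
  intro h
  have h1 := vj_norm j
  rw [h, ← dt_eq] at h1
  have h2 : dt (cd 0) (cd 0) = 0 := sum_eq_zero fun i _ => by rw [cd_zero, mul_zero]
  omega

theorem un_ne0 (u : ℕ) {x : RuVec} (hx : x ≠ 0) : un u x ≠ 0 := by
  intro h
  apply hx
  have h1 := congrArg (un (3 * u)) h
  rw [← un_add, show 3 * u + u = 4 * u by ring, un_mod, show 4 * u % 4 = 0 by omega, un_zero] at h1
  rw [h1]
  have : ∀ n, un n (0 : RuVec) = 0 := by
    intro n
    induction n with
    | zero => rfl
    | succ n ih => rw [un_succ, ih, smul_zero]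
  exact this _

/-- minimality -/
theorem un_norm (u : ℕ) (x : RuVec) : ruNorm (un u x) = ruNorm x := by
  induction u with
  | zero => rfl
  | succ n ih =>
    rw [un_succ, ← ih]
    unfold ruNorm
    refine sum_congr rfl fun p _ => ?_
    rw [Pi.smul_apply, smul_eq_mul, Zsqrtd.norm_mul]
    have : gI.norm = 1 := by decide
    rw [this, one_mul]

theorem pigeon {α β : Type} [Fintype α] (l : List β) (f : α → β) (hf : Function.Injective f) (hmem : ∀ a, f a ∈ l)
    (hl : l.length ≤ Fintype.card α) {x : β} (hx : x ∈ l) : ∃ a, f a = x := by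
  classical
  by_contra hc
  push Not at hc
  have h1 : insert x (Finset.univ.image f) ⊆ l.toFinset := by
    intro z hz
    rw [List.mem_toFinset]
    rcases Finset.mem_insert.1 hz with rfl | hz
    · exact hx
    · obtain ⟨t, _, rfl⟩ := Finset.mem_image.1 hz
      exact hmem t
  have h2 := Finset.card_le_card h1
  have h3 : x ∉ Finset.univ.image f := by
    intro h
    obtain ⟨t, _, ht⟩ := Finset.mem_image.1 h
    exact hc t ht
  rw [Finset.card_insert_of_notMem h3, Finset.card_image_of_injective _ hf, Finset.card_univ] at h2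
  have h4 := List.toFinset_card_le l
  omega

section

variable (hinj : ∀ i j : Fin 4060, RR i j → i = j)

include hinj

theorem uj_inj {u v : ℕ} {i j : Fin 4060} (h : un u (vj i) = un v (vj j)) : i = j ∧ u % 4 = v % 4 := by
  have h1 : i = j := hinj i j ⟨_, un_cancel h⟩
  refine ⟨h1, ?_⟩
  subst h1
  have h2 := un_cancel h.symm
  have h3 := un_fix h2.symm (vj_ne0 i)
  omega

theorem complete {x : RuVec} (hx : x ∈ MinS) : ∃ (u : Fin 4) (j : Fin 4060), x = un u (vj j) := by
  obtain ⟨l, hl, hl2⟩ := cov16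
  have hcard : Fintype.card (Fin 4060 × Fin 4) = 16240 := by rw [Fintype.card_prod, Fintype.card_fin, Fintype.card_fin]
  obtain ⟨t, ht⟩ := pigeon l (fun t : Fin 4060 × Fin 4 => un t.2 (vj t.1)) (by
    rintro ⟨i, u⟩ ⟨j, v⟩ h
    obtain ⟨h1, h2⟩ := uj_inj hinj h
    have h3 : u = v := by
      apply Fin.ext
      have h4 := u.2
      have h5 := v.2
      dsimp only at h2
      omega
    exact Prod.ext h1 h3) (fun t => hl2 _ ⟨un_L _ (vj_L _), by rw [un_norm, vj_norm]⟩) (by rw [hcard]; exact hl) (hl2 x hx)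
  exact ⟨t.2, t.1, ht.symm⟩

end

end Cfsg.Agent.H90.RuL
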