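import Cfsg.Agent.H90.RuL.ChkDef

/-! Counts (generated, owner: helper90). -/

set_option autoImplicit false
set_option maxRecDepth 1000000

namespace Cfsg.Agent.H90.RuL

open Cfsg.Spor Finset Cfsg.Agent.CosetEnum

theorem ckN2_0 : Nat.beq (cn (t4 0x10000000000000000 0x400000000) 0 1015 0) 269 = true := by decide +kernel

theorem ckN2_1 : Nat.beq (cn (t4 0x10000000000000000 0x400000000) 1015 1015 0) 246 = true := by decide +kernel

theorem ckN2_2 : Nat.beq (cn (t4 0x10000000000000000 0x400000000) 2030 1015 0) 223 = true := by decide +kernel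

theorem ckN2_3 : Nat.beq (cn (t4 0x10000000000000000 0x400000000) 3045 1015 0) 237 = true := by decide +kernel

theorem ckN2 : Sm (t4 0x10000000000000000 0x400000000) 0 4060 975 := by
  have h0 : Sm (t4 0x10000000000000000 0x400000000) 0 1015 269 := Sm.of ckN2_0 (by norm_num)
  have h1 : Sm (t4 0x10000000000000000 0x400000000) 1015 2030 246 := Sm.of ckN2_1 (by norm_num)
  have h2 : Sm (t4 0x10000000000000000 0x400000000) 2030 3045 223 := Sm.of ckN2_2 (by norm_num)
  have h3 : Sm (t4 0x10000000000000000 0x400000000) 3045 4060 237 := Sm.of ckN2_3 (by norm_num)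
  have h := ((h0.trans h1 (by norm_num) (by norm_num)).trans h2 (by norm_num) (by norm_num)).trans h3 (by norm_num) (by norm_num)
  exact h

end Cfsg.Agent.H90.RuL
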