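import Cfsg.Agent.H90.RuL.CkN1
import Cfsg.Agent.H90.RuL.CkN2
import Cfsg.Agent.H90.RuL.CkN3
import Cfsg.Agent.H90.RuL.CkN4
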