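import Cfsg.Agent.H90.RuL.ChkDef

/-! Uniqueness (generated, owner: helper90). -/

set_option autoImplicit false
set_option maxRecDepth 1000000

namespace Cfsg.Agent.H90.RuL

open Cfsg.Spor Finset Cfsg.Agent.CosetEnum

theorem ckU_0 : allN uq 0 507 = true := by decide +kernel

theorem ckU_1 : allN uq 507 507 = true := by decide +kernel

theorem ckU_2 : allN uq 1014 507 = true := by decide +kernel

theorem ckU_3 : allN uq 1521 507 = true := by decide +kernel

theorem ckU_4 : allN uq 2028 507 = true := by decide +kernel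

theorem ckU_5 : allN uq 2535 507 = true := by decide +kernel

theorem ckU_6 : allN uq 3042 507 = true := by decide +kernel

theorem ckU_7 : allN uq 3549 511 = true := by decide +kernel

theorem ckU : Tr uq 0 4060 := by
  have h0 : Tr uq 0 507 := Tr.of ckU_0 (by norm_num)
  have h1 : Tr uq 507 1014 := Tr.of ckU_1 (by norm_num)
  have h2 : Tr uq 1014 1521 := Tr.of ckU_2 (by norm_num)
  have h3 : Tr uq 1521 2028 := Tr.of ckU_3 (by norm_num)
  have h4 : Tr uq 2028 2535 := Tr.of ckU_4 (by norm_num)
  have h5 : Tr uq 2535 3042 := Tr.of ckU_5 (by norm_num)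
  have h6 : Tr uq 3042 3549 := Tr.of ckU_6 (by norm_num)
  have h7 : Tr uq 3549 4060 := Tr.of ckU_7 (by norm_num)
  exact (((((((h0.trans h1).trans h2).trans h3).trans h4).trans h5).trans h6).trans h7)

end Cfsg.Agent.H90.RuL
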