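import Cfsg.Agent.H90.RuL.Aut2
import Cfsg.Agent.H90.RuL.CkN
import Cfsg.Agent.H90.RuL.CkU

/-!
The order of the automorphism group of the lattice: upper bound (owner: helper90).
-/

set_option autoImplicit false
set_option linter.unusedSimpArgs false
set_option maxHeartbeats 400000
set_option maxRecDepth 4000

namespace Cfsg.Agent.H90.RuL

open Cfsg.Spor Finset Cfsg.Agent.CosetEnum MulAction

theorem step {G X : Type*} [Group G] [Finite G] [MulAction G X] (H : Subgroup G) (x : X) (S : Set X) (n : ℕ) (hS : S.Finite)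
    (hn : S.ncard ≤ n) (hO : ∀ g ∈ H, g • x ∈ S) : Nat.card H ≤ n * Nat.card (H ⊓ stabilizer G x : Subgroup G) := by
  have h1 := Subgroup.card_mul_index (stabilizer H x)
  rw [index_stabilizer] at h1
  have h2 : (orbit H x).ncard ≤ n := by
    refine (Set.ncard_le_ncard ?_ hS).trans hn
    rintro _ ⟨g, rfl⟩
    exact hO g g.2
  have h3 : Nat.card (stabilizer H x) ≤ Nat.card (H ⊓ stabilizer G x : Subgroup G) := by
    refine Nat.card_le_card_of_injective (fun g => (⟨g.1.1, g.1.2, g.2⟩ : (H ⊓ stabilizer G x : Subgroup G))) ?_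
    intro a b h
    have h4 := congrArg Subtype.val h
    exact Subtype.ext (Subtype.ext h4)
  rw [← h1, mul_comm]
  exact Nat.mul_le_mul h2 h3

theorem g_add (g : fourRu) (x y : ruLattice) : g • (x + y) = g • x + g • y := g.2.1 x y

theorem g_I (g : fourRu) (x : ruLattice) : g • ruI x = ruI (g • x) := g.2.2.1 x

theorem g_norm (g : fourRu) (x : ruLattice) : ruNorm ((g • x : ruLattice) : RuVec) = ruNorm (x : RuVec) := g.2.2.2 x

theorem g_rip (g : fourRu) (x y : ruLattice) :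
    rip ((g • x : ruLattice) : RuVec) ((g • y : ruLattice) : RuVec) = rip (x : RuVec) (y : RuVec) := by
  have h1 := g_norm g (x + y)
  rw [g_add, AddSubgroup.coe_add, AddSubgroup.coe_add, norm_add, norm_add, g_norm, g_norm] at h1
  omega

theorem g_un (g : fourRu) (u : ℕ) (x y : ruLattice) (h : (y : RuVec) = un u (x : RuVec)) :
    ((g • y : ruLattice) : RuVec) = un u ((g • x : ruLattice) : RuVec) := by
  induction u generalizing y with
  | zero =>
    have : y = x := Subtype.ext h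
    rw [this]
    rfl
  | succ n ih =>
    have h1 := ih ⟨un n (x : RuVec), un_L _ x.2⟩ rfl
    have h2 : y = ruI ⟨un n (x : RuVec), un_L _ x.2⟩ := Subtype.ext h
    rw [h2, g_I, un_succ, ← h1]
    rfl

theorem g_min (g : fourRu) (i : Fin 4060) : ((g • VL i : ruLattice) : RuVec) ∈ MinS :=
  ⟨(g • VL i : ruLattice).2, by rw [g_norm]; exact vj_norm i⟩

/-- an automorphism fixing all table vectors is trivial -/
theorem g_ext {g h : fourRu} (hg : ∀ i : Fin 4060, g • VL i = h • VL i) : g = h := by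
  apply Subtype.ext
  apply Equiv.ext
  rintro ⟨x, hx⟩
  show g • (⟨x, hx⟩ : ruLattice) = h • (⟨x, hx⟩ : ruLattice)
  have h1 := L_closure hx
  have hle : ∀ y ∈ AddSubgroup.closure BB, y ∈ ruLattice := fun y hy => (AddSubgroup.closure_le ruLattice).2 (by
    rintro _ ⟨u, j, rfl⟩; exact un_L _ (vj_L _)) hy
  have h0 : ∀ k : fourRu, k • (0 : ruLattice) = 0 := by
    intro k
    have := g_add k 0 0
    rw [add_zero] at this
    exact left_eq_add.1 this
  induction h1 using AddSubgroup.closure_induction with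
  | mem x hxB =>
    obtain ⟨u, j, rfl⟩ := hxB
    apply Subtype.ext
    rw [g_un g u (VL j) _ rfl, g_un h u (VL j) _ rfl, hg]
  | zero => 
    have : (⟨0, hx⟩ : ruLattice) = 0 := rfl
    rw [this, h0, h0]
  | add x y hx1 hy1 ihx ihy =>
    have e : (⟨x + y, hx⟩ : ruLattice) = ⟨x, hle x hx1⟩ + ⟨y, hle y hy1⟩ := rfl
    rw [e, g_add, g_add, ihx (hle x hx1), ihy (hle y hy1)]
  | neg x hx1 ihx =>
    have e : (⟨-x, hx⟩ : ruLattice) = -⟨x, hle x hx1⟩ := rfl
    have hn : ∀ (k : fourRu) (z : ruLattice), k • (-z) = -(k • z) := by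
      intro k z
      have := g_add k (-z) z
      rw [neg_add_cancel, h0] at this
      exact eq_neg_of_add_eq_zero_left this.symm
    rw [e, hn, hn, ihx (hle x hx1)]

theorem MinS_finite : MinS.Finite := by
  obtain ⟨l, _, hl⟩ := cov16
  exact (List.finite_toSet l).subset hl

instance finG : Finite fourRu := by
  have : Finite MinS := MinS_finite
  refine Finite.of_injective (fun (g : fourRu) (i : Fin 4060) => (⟨_, g_min g i⟩ : MinS)) ?_
  intro g h hgh
  refine g_ext fun i => ?_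
  have h1 : (⟨_, g_min g i⟩ : MinS) = ⟨_, g_min h i⟩ := congrFun hgh i
  exact Subtype.ext (Subtype.mk.inj h1)

/-! ### patterns -/

/-- base points -/
noncomputable def bi (l : ℕ) : Fin 4060 := ⟨BI.getD l 0 % 4060, Nat.mod_lt _ (by norm_num)⟩

theorem bi_val {l : ℕ} (hl : l < 10) : ((bi l : Fin 4060) : ℕ) = BI.getD l 0 := Nat.mod_eq_of_lt (BIc l hl)

theorem EE_eq (x : RuVec) : EE x = ∑ l ∈ range 10, (dt (cd x) (cd (vj (bi l))) * ((2 ^ (32 * l) : ℕ) : ℤ) +
    dt (cd x) (cd (gI • vj (bi l))) * ((2 ^ (32 * l + 16) : ℕ) : ℤ)) := by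
  have h1 : ∀ l < 10, ∀ i < 56, xf l i = cd (vj (bi l)) i := by
    intro l hl i hi
    unfold xf
    rw [← bi_val hl]
    exact (cd_vv _ hi).symm
  have h2 : ∀ l < 10, ∀ i < 56, opH 0 (xf l) i = cd (gI • vj (bi l)) i := by
    intro l hl i hi
    have h3 := cd_un1 (vj (bi l)) hi
    have h4 : cd (gI • vj (bi l)) i = sv (sg 0 i) (cd (vj (bi l)) (pm 0 i)) := h3
    rw [h4, ← h1 l hl _ (pm_lt (by norm_num) hi)]
    rfl
  unfold EE
  have h5 : dt (cd x) Rf = ∑ i ∈ range 56, ∑ l ∈ range 10, (cd x i * cd (vj (bi l)) i * ((2 ^ (32 * l) : ℕ) : ℤ) +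
      cd x i * cd (gI • vj (bi l)) i * ((2 ^ (32 * l + 16) : ℕ) : ℤ)) := by
    unfold dt Rf
    refine sum_congr rfl fun i hi => ?_
    rw [mul_sum]
    refine sum_congr rfl fun l hl => ?_
    rw [h1 l (mem_range.1 hl) i (mem_range.1 hi), h2 l (mem_range.1 hl) i (mem_range.1 hi)]
    ring
  rw [h5, sum_comm]
  refine sum_congr rfl fun l _ => ?_
  unfold dt
  rw [sum_mul, sum_mul, ← sum_add_distrib]

theorem g_dt (g : fourRu) {z : ruLattice} (hz : g • z = z) (x : ruLattice) :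
    dt (cd ((g • x : ruLattice) : RuVec)) (cd (z : RuVec)) = dt (cd (x : RuVec)) (cd (z : RuVec)) := by
  have h := g_rip g x z
  rw [hz] at h
  exact h

theorem pat (g : fourRu) {k : ℕ} (hfix : ∀ l < k, g • VL (bi l) = VL (bi l)) (x : ruLattice) :
    ((2 ^ (32 * k) : ℕ) : ℤ) ∣ EE ((g • x : ruLattice) : RuVec) - EE (x : RuVec) := by
  rw [EE_eq, EE_eq, ← sum_sub_distrib]
  refine dvd_sum fun l _ => ?_
  by_cases hl : l < k
  · have h1 := g_dt g (hfix l hl) x
    have h2 : g • ruI (VL (bi l)) = ruI (VL (bi l)) := by rw [g_I, hfix l hl]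
    have h3 := g_dt g h2 x
    have e1 : dt (cd ((g • x : ruLattice) : RuVec)) (cd (vj (bi l))) = dt (cd (x : RuVec)) (cd (vj (bi l))) := h1
    have e2 : dt (cd ((g • x : ruLattice) : RuVec)) (cd (gI • vj (bi l))) = dt (cd (x : RuVec)) (cd (gI • vj (bi l))) := h3
    rw [e1, e2, sub_self]
    exact dvd_zero _
  · have h3 : ((2 ^ (32 * k) : ℕ) : ℤ) ∣ ((2 ^ (32 * l) : ℕ) : ℤ) :=
      Int.natCast_dvd_natCast.2 (pow_dvd_pow 2 (by omega))
    have h4 : ((2 ^ (32 * k) : ℕ) : ℤ) ∣ ((2 ^ (32 * l + 16) : ℕ) : ℤ) :=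
      Int.natCast_dvd_natCast.2 (pow_dvd_pow 2 (by omega))
    exact dvd_sub (dvd_add (h3.mul_left _) (h4.mul_left _)) (dvd_add (h3.mul_left _) (h4.mul_left _))

theorem pat_tk {m p : ℕ} {j0 j : Fin 4060} {u : ℕ} (hu : u < 4) (hm : m ∣ NN) (hpm : p < m)
    (hp : ea (rowV PV j0) % m = p) (h : (m : ℤ) ∣ EE (un u (vj j)) - EE (vj j0)) : tk m p j u = true := by
  refine tv_of hm (b := EE (vj j0)) ?_ hpm (ev_sound linA linB hu _) h
  have h1 := ea_sound linA (rowV PV j0)
  have h2 : (m : ℤ) ∣ (ea (rowV PV j0) : ℤ) - EE (vj j0) := (Int.natCast_dvd_natCast.2 hm).trans h1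
  have h3 := mod_dvd h2
  rw [hp] at h3
  exact h3

/-- the pointwise stabilizers -/
noncomputable def Hs : ℕ → Subgroup fourRu
  | 0 => ⊤
  | k + 1 => Hs k ⊓ stabilizer fourRu (VL (bi k))

theorem Hs_fix {k : ℕ} {g : fourRu} (hg : g ∈ Hs k) : ∀ l < k, g • VL (bi l) = VL (bi l) := by
  induction k with
  | zero => intro l hl; omega
  | succ k ih =>
    intro l hl
    by_cases h : l = k
    · rw [h]; exact hg.2
    · exact ih hg.1 l (by omega)

theorem card_filter_fin (n m : ℕ) (p : ℕ → ℕ → Bool) :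
    (Finset.univ.filter fun t : Fin n × Fin m => p t.1 t.2 = true).card = ∑ j ∈ range n, ∑ u ∈ range m, (p j u).toNat := by
  rw [Finset.card_filter, ← Finset.univ_product_univ, Finset.sum_product, Finset.sum_range]
  refine Finset.sum_congr rfl fun j _ => ?_
  rw [Finset.sum_range]
  refine Finset.sum_congr rfl fun u _ => ?_
  cases p j u <;> rfl

theorem card_image_fin {X : Type*} (n m : ℕ) (p : ℕ → ℕ → Bool) (f : ℕ → ℕ → X) (S : Set X)
    (h : ∀ x ∈ S, ∃ (i : Fin n) (u : Fin m), f i u = x ∧ p i u = true) :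
    S.Finite ∧ S.ncard ≤ ∑ j ∈ range n, ∑ u ∈ range m, (p j u).toNat := by
  classical
  have h1 : S ⊆ (((Finset.univ.filter fun t : Fin n × Fin m => p t.1 t.2 = true).image fun t => f t.1 t.2 : Finset X) : Set X) := by
    intro x hx
    obtain ⟨i, u, h1, h2⟩ := h x hx
    rw [Finset.mem_coe, Finset.mem_image]
    exact ⟨(i, u), Finset.mem_filter.2 ⟨Finset.mem_univ _, h2⟩, h1⟩
  refine ⟨(Finset.finite_toSet _).subset h1, ?_⟩
  rw [← card_filter_fin n m p]
  refine (Set.ncard_le_ncard h1 (Finset.finite_toSet _)).trans ?_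
  rw [Set.ncard_coe_finset]
  exact Finset.card_image_le

section

variable (hinj : ∀ i j : Fin 4060, RR i j → i = j)

include hinj

/-- the vectors passing a test -/
def Sk' (m p : ℕ) : Set ruLattice := {x | ∃ u < 4, ∃ j : Fin 4060, (x : RuVec) = un u (vj j) ∧ tk m p j u = true}

omit hinj in
theorem Sk'_card {m p n : ℕ} (h : Sm (t4 m p) 0 4060 n) : (Sk' m p).Finite ∧ (Sk' m p).ncard ≤ n := by
  classical
  have h1 := card_image_fin (X := ruLattice) 4060 4 (tk m p)
    (fun i u => if hi : i < 4060 then ⟨un u (vj (⟨i, hi⟩ : Fin 4060)), un_L _ (vj_L _)⟩ else 0) (Sk' m p) (fun x hx => by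
      obtain ⟨u, hu, j, hx1, ht⟩ := hx
      refine ⟨j, ⟨u, hu⟩, ?_, ht⟩
      rw [dif_pos j.2]
      exact Subtype.ext hx1.symm)
  refine ⟨h1.1, h1.2.trans (le_of_eq ?_)⟩
  unfold Sm at h
  rw [Nat.Ico_zero_eq_range] at h
  rw [← h]
  exact Finset.sum_congr rfl fun j _ => (t4_eq m p j).symm

theorem orb {m p k : ℕ} {j0 : Fin 4060} (hm : m ∣ NN) (hmk : m = 2 ^ (32 * k)) (hpm : p < m)
    (hp : ea (rowV PV j0) % m = p) {g : fourRu} (hg : g ∈ Hs k) : ∃ u < 4, ∃ j : Fin 4060,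
      ((g • VL j0 : ruLattice) : RuVec) = un u (vj j) ∧ tk m p j u = true := by
  obtain ⟨u, j, hj⟩ := complete hinj (g_min g j0)
  refine ⟨u, u.2, j, hj, pat_tk u.2 hm hpm hp ?_⟩
  have h1 := pat g (Hs_fix hg) (VL j0)
  rw [hj] at h1
  rw [hmk]
  exact h1

theorem cstep {m p k n : ℕ} (hm : m ∣ NN ∧ p < m ∧ ea (rowV PV (BI.getD k 0)) % m = p) (hmk : m = 2 ^ (32 * k)) (hk : k < 10)
    (h : Sm (t4 m p) 0 4060 n) : Nat.card (Hs k) ≤ n * Nat.card (Hs (k + 1)) := by
  obtain ⟨h1, h2⟩ := Sk'_card h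
  refine step (Hs k) (VL (bi k)) (Sk' m p) n h1 h2 fun g hg => ?_
  exact orb hinj hm.1 hmk hm.2.1 (by rw [bi_val hk]; exact hm.2.2) hg

theorem ustep {k : ℕ} (hk : k < 5) : Nat.card (Hs (5 + k)) ≤ 1 * Nat.card (Hs (5 + k + 1)) := by
  obtain ⟨h1, h2⟩ := TG5 k hk
  have hmem : TG.getD k (0, 0, 0) ∈ TG := by
    rw [List.getD_eq_getElem _ _ (by rw [lenTG]; omega)]
    exact List.getElem_mem _
  obtain ⟨h3, h4, h5, h6⟩ := TGc _ hmem
  refine step (Hs (5 + k)) (VL (bi (5 + k))) {VL (bi (5 + k))} 1 (Set.finite_singleton _) (Set.ncard_singleton _).le fun g hg => ?_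
  rw [h1] at h6
  obtain ⟨u, hu, j, hj, ht⟩ := orb hinj (j0 := bi (5 + k)) h3 h2 h4 (by rw [bi_val (by omega)]; exact h6) hg
  obtain ⟨h7, h8⟩ := uq_sound (ckU j (Nat.zero_le _) j.2) hmem hu ht
  rw [Set.mem_singleton_iff]
  apply Subtype.ext
  rw [hj, h8, un_zero]
  have : j = bi (5 + k) := by
    apply Fin.ext
    rw [h7, h1, bi_val (by omega)]
  rw [this]
  rfl

theorem frame_fix {g : fourRu} (hg : g ∈ Hs 10) {q : ℕ} (hq : q < 28) {j0 : Fin 4060} (hj0 : (j0 : ℕ) = FI.getD q 0) :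
    g • VL j0 = VL j0 := by
  obtain ⟨h1, h2⟩ := TG28 q hq
  have hmem : TG.getD (5 + q) (0, 0, 0) ∈ TG := by
    rw [List.getD_eq_getElem _ _ (by rw [lenTG]; omega)]
    exact List.getElem_mem _
  obtain ⟨h3, h4, h5, h6⟩ := TGc _ hmem
  rw [h1, ← hj0] at h6
  obtain ⟨u, hu, j, hj, ht⟩ := orb hinj (k := 10) h3 h2 h4 h6 hg
  obtain ⟨h7, h8⟩ := uq_sound (ckU j (Nat.zero_le _) j.2) hmem hu ht
  apply Subtype.ext
  rw [hj, h8, un_zero]
  have : j = j0 := by
    apply Fin.ext
    rw [h7, h1, hj0]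
  rw [this]
  rfl

theorem Hs10 : Hs 10 = ⊥ := by
  rw [eq_bot_iff]
  intro g hg
  rw [Subgroup.mem_bot]
  refine g_ext fun i => ?_
  rw [one_smul]
  -- fixes all vectors 4 e_i
  have hfour : ∀ j < 56, ∀ y : ruLattice, (y : RuVec) = mkV (fun i => if i = j then (4 : ℤ) else 0) → g • y = y := by
    intro j hj y hy
    obtain ⟨v, hv0, hv⟩ := frV (p := j / 2) (by omega)
    have hfix := frame_fix hinj hg (q := j / 2) (by omega) hv0
    have hun : ∃ u, (y : RuVec) = un u (vj v) := by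
      obtain ⟨u, hu⟩ := four_un hj hv
      refine ⟨u, ?_⟩
      rw [hy]
      refine cd_ext fun i hi => ?_
      rw [cd_mkV _ hi]
      exact hu i hi
    obtain ⟨u, hu⟩ := hun
    apply Subtype.ext
    rw [g_un g u (VL v) y hu, hfix, hu]
    rfl
  -- inner products with all 4 e_j are preserved
  apply Subtype.ext
  refine cd_ext fun j hj => ?_
  let y : ruLattice := ⟨mkV (fun i => if i = j then (4 : ℤ) else 0), four_mem hj⟩
  have h1 := g_dt g (hfour j hj y rfl) (VL i)
  have h2 : ∀ x : RuVec, dt (cd x) (cd (y : RuVec)) = cd x j * 4 := by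
    intro x
    unfold dt
    rw [Finset.sum_eq_single j]
    · show cd x j * cd (mkV _) j = _
      rw [cd_mkV _ hj, if_pos rfl]
    · intro i hi hne
      show cd x i * cd (mkV _) i = _
      rw [cd_mkV _ (mem_range.1 hi), if_neg hne, mul_zero]
    · intro h
      exact absurd (mem_range.2 hj) h
  rw [h2, h2] at h1
  omega

theorem bound : Nat.card fourRu ≤ 4 * 145926144000 := by
  have hinj' := hinj
  have c0 : Nat.card (Hs 0) ≤ 16240 * Nat.card (Hs 1) := by
    classical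
    obtain ⟨l, hl, hl2⟩ := cov16
    let S : Set ruLattice := {x | (x : RuVec) ∈ MinS}
    have hSf : S.Finite := by
      refine Set.Finite.of_finite_image (f := Subtype.val) (MinS_finite.subset ?_) Subtype.val_injective.injOn
      rintro _ ⟨x, hx, rfl⟩
      exact hx
    have hSn : S.ncard ≤ 16240 := by
      have h1 : S.ncard = (Subtype.val '' S).ncard := (Set.ncard_image_of_injective S Subtype.val_injective).symm
      rw [h1]
      have h2 : Subtype.val '' S ⊆ ((l.toFinset : Finset RuVec) : Set RuVec) := by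
        rintro _ ⟨x, hx, rfl⟩
        rw [Finset.mem_coe, List.mem_toFinset]
        exact hl2 _ hx
      refine (Set.ncard_le_ncard h2 (Finset.finite_toSet _)).trans ?_
      rw [Set.ncard_coe_finset]
      exact (List.toFinset_card_le l).trans hl
    exact step (Hs 0) (VL (bi 0)) S 16240 hSf hSn fun g _ => g_min g _
  have c1 := cstep hinj ptc1 mod1 (by norm_num) ckN1
  have c2 := cstep hinj ptc2 mod2 (by norm_num) ckN2
  have c3 := cstep hinj ptc3 mod3 (by norm_num) ckN3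
  have c4 := cstep hinj ptc4 mod4 (by norm_num) ckN4
  have d0 := ustep hinj (k := 0) (by norm_num)
  have d1 := ustep hinj (k := 1) (by norm_num)
  have d2 := ustep hinj (k := 2) (by norm_num)
  have d3 := ustep hinj (k := 3) (by norm_num)
  have d4 := ustep hinj (k := 4) (by norm_num)
  have e : Nat.card (Hs 10) = 1 := by rw [Hs10 hinj]; exact Subgroup.card_bot
  have e0 : Nat.card (Hs 0) = Nat.card fourRu := Subgroup.card_top
  norm_num at c0 c1 c2 c3 c4 d0 d1 d2 d3 d4
  rw [← e0]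
  omega

end

end Cfsg.Agent.H90.RuL
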