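import Cfsg.Agent.H90.RuL.Aut3
import Cfsg.Agent.H90.SiftRu.Out

/-!
The Rudvalis group: comparison of the lattice automorphism group with the presented group (owner: helper90).
-/

set_option autoImplicit false
set_option linter.unusedSimpArgs false
set_option maxHeartbeats 400000
set_option maxRecDepth 4000

namespace Cfsg.Agent.H90.RuL

open Cfsg.Spor Finset Cfsg.Agent.CosetEnum MulAction

section

variable (hinj : ∀ i j : Fin 4060, RR i j → i = j)

include hinj

theorem exists_hom : ∃ π : fourRu →* Equiv.Perm (Fin 4060), ∀ (g : fourRu) (i : Fin 4060),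
    ∃ u, ((g • VL i : ruLattice) : RuVec) = un u (vj (π g i)) := by
  choose uu jj hj using fun (g : fourRu) (i : Fin 4060) => complete hinj (g_min g i)
  have huniq : ∀ (g : fourRu) (i k : Fin 4060) (u : ℕ), ((g • VL i : ruLattice) : RuVec) = un u (vj k) → jj g i = k := by
    intro g i k u h
    rw [hj g i] at h
    exact (uj_inj hinj h).1
  have hone : ∀ i, jj 1 i = i := fun i => huniq 1 i i 0 (by rw [one_smul, un_zero]; rfl)
  have hmul : ∀ g h i, jj (g * h) i = jj g (jj h i) := by
    intro g h i
    refine huniq (g * h) i _ ((uu h i : ℕ) + uu g (jj h i)) ?_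
    rw [mul_smul, g_un g (uu h i) (VL (jj h i)) (h • VL i) (hj h i), hj g (jj h i), un_add]
  let A : MulAction fourRu (Fin 4060) :=
    { smul := fun g i => jj g i
      one_smul := hone
      mul_smul := hmul }
  refine ⟨@MulAction.toPermHom fourRu (Fin 4060) _ A, fun g i => ⟨uu g i, ?_⟩⟩
  exact hj g i

end

theorem gI_L {x : RuVec} (hx : x ∈ ruLattice) : gI • x ∈ ruLattice := gI_smul_mem_ruLattice hx

/-- multiplication by the imaginary unit as a permutation -/
def zeP : Equiv.Perm ruLattice where
  toFun x := ⟨un 1 (x : RuVec), un_L _ x.2⟩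
  invFun x := ⟨un 3 (x : RuVec), un_L _ x.2⟩
  left_inv x := Subtype.ext (by
    show un 3 (un 1 (x : RuVec)) = x
    rw [← un_add, un_four])
  right_inv x := Subtype.ext (by
    show un 1 (un 3 (x : RuVec)) = x
    rw [← un_add, un_four])

/-- multiplication by the imaginary unit -/
def ze : fourRu := ⟨zeP, by
  refine ⟨fun v w => Subtype.ext ?_, fun v => Subtype.ext ?_, fun v => ?_⟩
  · show un 1 (((v + w : ruLattice) : RuVec)) = ((zeP v + zeP w : ruLattice) : RuVec)
    rw [AddSubgroup.coe_add, AddSubgroup.coe_add, un_succ, un_zero, smul_add]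
    rfl
  · rfl
  · show ruNorm (un 1 (v : RuVec)) = _
    exact un_norm 1 _⟩

theorem ze_pow (n : ℕ) (x : ruLattice) : ((ze ^ n • x : ruLattice) : RuVec) = un n (x : RuVec) := by
  induction n with
  | zero => rw [pow_zero, one_smul, un_zero]
  | succ n ih =>
    rw [pow_succ', mul_smul, un_succ, ← ih]
    rfl

theorem ze_inj {m n : ℕ} (h : ze ^ m = ze ^ n) : m % 4 = n % 4 := by
  have h1 : un m (vj i0) = un n (vj i0) := by
    have h2 := ze_pow m (VL i0)
    rw [h, ze_pow] at h2
    exact h2.symm
  have h2 := un_cancel h1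
  have h3 := un_fix h2.symm (vj_ne0 i0)
  omega

theorem ze_central (n : ℕ) (g : fourRu) : g * ze ^ n = ze ^ n * g := by
  refine g_ext fun i => ?_
  rw [mul_smul, mul_smul]
  apply Subtype.ext
  rw [ze_pow, g_un g n (VL i) _ (ze_pow n (VL i))]

/-- the abstract comparison -/
theorem compare {G Γ X : Type} [Group G] [Finite G] [Group Γ] [Finite Γ] (hΓ : IsSimpleGroup Γ) {N : ℕ} (hN : Nat.card Γ = N)
    (hprime : ¬ N.Prime) (π : G →* Equiv.Perm X) (ρ : Γ →* Equiv.Perm X) (hρ : Function.Injective ρ)
    (hle : ρ.range ≤ π.range) (z : ℕ → G) (hz : ∀ n, z n ∈ π.ker) (hzi : ∀ m n, z m = z n → m % 4 = n % 4)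
    (hzc : ∀ n g, g * z n = z n * g) (hb : Nat.card G ≤ 4 * N) :
    Nat.card (Subgroup.center G) = 4 ∧ Nonempty ((G ⧸ Subgroup.center G) ≃* Γ) := by
  have h1 : Nat.card ρ.range = N := by
    rw [← hN]
    exact (Nat.card_congr (MonoidHom.ofInjective hρ).toEquiv).symm
  have hNpos : 0 < N := by rw [← hN]; exact Nat.card_pos
  have h2 : Nat.card G = Nat.card π.ker * Nat.card π.range := by
    rw [← Subgroup.card_mul_index π.ker, Subgroup.index_ker]
  have : Finite π.range := Finite.of_surjective π.rangeRestrict π.rangeRestrict_surjective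
  have h3 : N ≤ Nat.card π.range := by
    rw [← h1]
    exact Nat.card_le_card_of_injective (Subgroup.inclusion hle) (Subgroup.inclusion_injective hle)
  let f : Fin 4 → π.ker := fun i => ⟨z i, hz i⟩
  have hf : Function.Injective f := by
    intro i j hij
    have h4 := hzi i j (congrArg Subtype.val hij)
    apply Fin.ext
    have := i.2
    have := j.2
    omega
  have h4 : 4 ≤ Nat.card π.ker := by
    have := Nat.card_le_card_of_injective f hf
    simpa using this
  have h5 : Nat.card π.ker = 4 := by
    apply le_antisymm _ h4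
    by_contra hc
    have h6 : 5 ≤ Nat.card π.ker := by omega
    have h7 : 5 * N ≤ Nat.card π.ker * Nat.card π.range := Nat.mul_le_mul h6 h3
    rw [← h2] at h7
    omega
  have h6 : Nat.card π.range = N := by
    apply le_antisymm _ h3
    rw [h2, h5] at hb
    omega
  have h7 : ρ.range = π.range := by
    apply Subgroup.eq_of_le_of_card_ge hle
    rw [h1, h6]
  have h8 : Function.Surjective f := by
    have : Fintype π.ker := Fintype.ofFinite _
    have h9 : Function.Bijective f := (Fintype.bijective_iff_injective_and_card f).2 ⟨hf, by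
      rw [Fintype.card_fin, ← Nat.card_eq_fintype_card, h5]⟩
    exact h9.2
  have hker : π.ker = Subgroup.center G := by
    apply le_antisymm
    · intro x hx
      obtain ⟨i, hi⟩ := h8 ⟨x, hx⟩
      have h9 : x = z i := (congrArg Subtype.val hi).symm
      rw [Subgroup.mem_center_iff, h9]
      exact hzc i
    · intro x hx
      rw [Subgroup.mem_center_iff] at hx
      have h9 : π x ∈ ρ.range := by rw [h7]; exact ⟨x, rfl⟩
      obtain ⟨c, hc⟩ := h9
      have h10 : c ∈ Subgroup.center Γ := by
        rw [Subgroup.mem_center_iff]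
        intro g
        apply hρ
        have h11 : ρ g ∈ π.range := by rw [← h7]; exact ⟨g, rfl⟩
        obtain ⟨y, hy⟩ := h11
        rw [map_mul, map_mul, hc, ← hy, ← map_mul, ← map_mul, hx y]
      have h11 : Subgroup.center Γ = ⊥ := by
        rcases hΓ.eq_bot_or_eq_top_of_normal (Subgroup.center Γ) inferInstance with h | h
        · exact h
        · exfalso
          apply hprime
          rw [← hN]
          have hcomm : ∀ a b : Γ, a * b = b * a := fun a b => by
            have : b ∈ Subgroup.center Γ := by rw [h]; trivial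
            exact (Subgroup.mem_center_iff.1 this) a
          letI : CommGroup Γ := { (inferInstance : Group Γ) with mul_comm := hcomm }
          exact IsSimpleGroup.prime_card (α := Γ)
      rw [h11, Subgroup.mem_bot] at h10
      rw [MonoidHom.mem_ker, ← hc, h10, map_one]
  refine ⟨by rw [← hker]; exact h5, ⟨?_⟩⟩
  have e1 : (G ⧸ Subgroup.center G) ≃* (G ⧸ π.ker) := QuotientGroup.quotientMulEquivOfEq hker.symm
  have e2 : (G ⧸ π.ker) ≃* π.range := QuotientGroup.quotientKerEquivRange π
  have e3 : π.range ≃* ρ.range := MulEquiv.subgroupCongr h7.symm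
  exact e1.trans (e2.trans (e3.trans (MonoidHom.ofInjective hρ).symm))

end Cfsg.Agent.H90.RuL
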