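import Cfsg.Agent.H90.RuL.Aut4

/-!
The Rudvalis group of the lattice is the presented Rudvalis group (owner: helper90).
-/

set_option autoImplicit false
set_option linter.unusedSimpArgs false
set_option maxHeartbeats 400000
set_option maxRecDepth 4000

namespace Cfsg.Agent.H90.RuL

open Cfsg.Spor Finset Cfsg.Agent.CosetEnum MulAction Cfsg.Agent.H90.Sift

theorem letters : ∃ A : MulAction Ru.GR (Fin 4060), Function.Injective (@MulAction.toPermHom Ru.GR (Fin 4060) _ A) ∧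
    @IsPretransitive Ru.GR (Fin 4060) A.toSMul ∧ ∃ z : ℕ → Ru.GR, Subgroup.closure ({z 1, z 3, z 5} : Set Ru.GR) = ⊤ ∧
    ∀ x ∈ ({1, 3, 5} : Set ℕ), ∀ i : Fin 4060, ((@HSMul.hSMul Ru.GR (Fin 4060) (Fin 4060) (@instHSMul _ _ A.toSMul) (z x)⁻¹ i : Fin 4060) : ℕ) =
      act SiftRu.P x i := by
  have hcard : Nat.card Ru.GR = _ := Ru.card_GR
  have hfin : Finite Ru.GR := Nat.finite_of_card_ne_zero (by rw [hcard]; norm_num)
  obtain ⟨A, letsk, cw, h1, h2, hA, h3k, h4, h5, h6, h7⟩ := (Ru.L9).ex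
  obtain ⟨A', hRA⟩ := new_action (P := SiftRu.P) (Q := RuT.P) rfl A hA (ws := SiftRu.ws) (by decide +kernel) (by decide +kernel)
    (by decide +kernel) SiftRu.ncov
  have h : LettersOK SiftRu.P (newL Ru.gR SiftRu.ws) := letters_ok hRA
  obtain ⟨_, hS, _, _⟩ := SiftRu.concl hcard h
  refine ⟨A, Ru.faith_card.1 A hA, h4, newL Ru.gR SiftRu.ws, hS, ?_⟩
  have key : ∀ t ∈ SiftRu.ws, ∀ i : Fin 4060, ((@HSMul.hSMul Ru.GR (Fin 4060) (Fin 4060) (@instHSMul _ _ A.toSMul)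
      ((t.2.2.map Ru.gR).prod)⁻¹ i : Fin 4060) : ℕ) = act SiftRu.P t.1 i := by
    intro t ht i
    have h8 := newB_sound (SiftRu.ncov i (Nat.zero_le _) i.2)
    rw [(h8.2.2 t ht).1, ← val_inv]
    refine hA.word (fun x hx => ?_) i
    have h9 : (SiftRu.ws.all fun t => t.2.2.all RuT.lets.contains) = true := by decide +kernel
    simp only [List.all_eq_true] at h9
    simpa using h9 t ht x hx
  intro x hx i
  rcases hx with rfl | rfl | rfl
  · exact key (1, 2, SiftRu.wy) (by simp [SiftRu.ws]) i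
  · exact key (3, 4, SiftRu.wu) (by simp [SiftRu.ws]) i
  · exact key (5, 6, SiftRu.wv) (by simp [SiftRu.ws]) i

theorem final : Nat.card (Subgroup.center fourRu) = 4 ∧ Nonempty (Ru ≃* Cfsg.Agent.CosetEnum.Ru.GR) := by
  obtain ⟨A, hfaith, htr, z, hcl, hz⟩ := letters
  letI := A
  have hfin : Finite Cfsg.Agent.CosetEnum.Ru.GR := Nat.finite_of_card_ne_zero (by rw [Ru.card_GR]; norm_num)
  -- images
  have hm : ∀ (x : ℕ) (MC CM : List ℕ) (KF : ℕ), MatOK MC CM KF → Tr (eqvI CM KF x) 0 4060 → x ∈ ({1, 3, 5} : Set ℕ) →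
      ∀ i : Fin 4060, ∃ u, Phi MC (vj i) = (4 : ℤ) • un u (vj ((z x)⁻¹ • i : Fin 4060)) := by
    intro x MC CM KF hM hT hx i
    obtain ⟨u, hu⟩ := img hM.lin hT i
    refine ⟨u, ?_⟩
    rw [hz x hx i]
    exact hu
  have hm1 := hm 1 MC1 CM1 KF1 mat1 ckE1 (by simp)
  have hm3 := hm 3 MC3 CM3 KF3 mat3 ckE3 (by simp)
  have hm5 := hm 5 MC5 CM5 KF5 mat5 ckE5 (by simp)
  have hsur : ∀ x, Function.Surjective (fun i : Fin 4060 => (z x)⁻¹ • i) := fun x i => ⟨z x • i, inv_smul_smul _ _⟩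
  have hpres : ∀ (g : Ru.GR) {i j : Fin 4060}, RR i j → RR (g • i) (g • j) := by
    intro g i j hR
    refine pres hcl (fun x hx i j h => ?_) g hR
    rcases hx with rfl | rfl | rfl
    · exact RR_step mat1 (p := fun i : Fin 4060 => (z 1)⁻¹ • i) hm1 h
    · exact RR_step mat3 (p := fun i : Fin 4060 => (z 3)⁻¹ • i) hm3 h
    · exact RR_step mat5 (p := fun i : Fin 4060 => (z 5)⁻¹ • i) hm5 h
  have hinj : ∀ i j : Fin 4060, RR i j → i = j := by
    intro i j hR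
    obtain ⟨g, hg⟩ := htr.exists_smul_eq i i0
    have h1 := hpres g hR
    rw [hg] at h1
    have h2 := RR_i0 h1
    have h3 : g • i = g • j := by rw [hg, h2]
    exact (MulAction.injective g h3)
  obtain ⟨π, hπ⟩ := exists_hom hinj
  have huniq : ∀ (g : fourRu) (i k : Fin 4060) (u : ℕ), ((g • VL i : ruLattice) : RuVec) = un u (vj k) → π g i = k := by
    intro g i k u h
    obtain ⟨v, hv⟩ := hπ g i
    rw [hv] at h
    exact (uj_inj hinj h).1
  have hgen : ∀ (x : ℕ) (MC CM : List ℕ) (KF : ℕ), MatOK MC CM KF →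
      (∀ i : Fin 4060, ∃ u, Phi MC (vj i) = (4 : ℤ) • un u (vj ((z x)⁻¹ • i : Fin 4060))) →
      MulAction.toPermHom Ru.GR (Fin 4060) (z x) ∈ π.range := by
    intro x MC CM KF hM hmx
    obtain ⟨g, hg⟩ := exists_aut hM (hsur x) hmx
    refine ⟨g⁻¹, ?_⟩
    rw [map_inv, inv_eq_iff_eq_inv, ← map_inv]
    apply Equiv.ext
    intro i
    obtain ⟨u, hu⟩ := hg i
    exact huniq g i _ u hu
  have hle : (MulAction.toPermHom Ru.GR (Fin 4060)).range ≤ π.range := by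
    rw [MonoidHom.range_eq_map, ← hcl, MonoidHom.map_closure, Subgroup.closure_le]
    rintro _ ⟨x, hx, rfl⟩
    rcases hx with rfl | rfl | rfl
    · exact hgen 1 _ _ _ mat1 hm1
    · exact hgen 3 _ _ _ mat3 hm3
    · exact hgen 5 _ _ _ mat5 hm5
  refine compare Ru.simple_GR Ru.card_GR (by norm_num) π (MulAction.toPermHom Ru.GR (Fin 4060)) hfaith hle (fun n => ze ^ n)
    (fun n => ?_) (fun m n h => ze_inj h) (fun n g => ze_central n g) (bound hinj)
  rw [MonoidHom.mem_ker]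
  apply Equiv.ext
  intro i
  exact huniq _ i i n (ze_pow n (VL i))

theorem out_congr {G H : Type} [Group G] [Group H] (e : G ≃* H) : Nat.card (Cfsg.Out G) = Nat.card (Cfsg.Out H) := by
  refine Nat.card_congr (QuotientGroup.congr _ _ (MulAut.congr e) ?_).toEquiv
  ext x
  constructor
  · rintro ⟨_, ⟨g, rfl⟩, rfl⟩
    refine ⟨e g, ?_⟩
    ext y
    change e g * y * (e g)⁻¹ = e (g * e.symm y * g⁻¹)
    rw [map_mul, map_mul, map_inv, MulEquiv.apply_symm_apply]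
  · rintro ⟨h, rfl⟩
    refine ⟨MulAut.conj (e.symm h), ⟨_, rfl⟩, ?_⟩
    ext y
    change e (e.symm h * e.symm y * (e.symm h)⁻¹) = h * y * h⁻¹
    rw [map_mul, map_mul, map_inv, MulEquiv.apply_symm_apply, MulEquiv.apply_symm_apply]

theorem s1627 : Nat.card (Subgroup.center fourRu) = 4 ∧ Nat.card Ru = 145926144000 ∧ IsSimpleGroup Ru := by
  obtain ⟨h1, ⟨e⟩⟩ := final
  refine ⟨h1, ?_, ?_⟩
  · rw [Nat.card_congr e.toEquiv, Ru.card_GR]
  · have := Ru.simple_GR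
    exact e.isSimpleGroup

theorem s2077 : Nat.card (Cfsg.Out Ru) = 1 := by
  obtain ⟨_, ⟨e⟩⟩ := final
  rw [out_congr e, SiftRu.out_GR]

end Cfsg.Agent.H90.RuL
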