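import Cfsg.Prelude.Def_Spor_Ru

/-!
The Conway–Wales lattice of rank 28: real coordinates (owner: helper90).
-/

set_option autoImplicit false
set_option linter.unusedSimpArgs false

namespace Cfsg.Agent.H90.RuL

open Cfsg.Spor Finset

/-- position of a Gaussian coordinate -/
def pt (k : ℕ) : RuIdx := (⟨(k / 4) % 7, Nat.mod_lt _ (by norm_num)⟩, ⟨k % 4, Nat.mod_lt _ (by norm_num)⟩)

/-- real coordinates -/
def cd (x : RuVec) (i : ℕ) : ℤ := if i % 2 = 0 then (x (pt (i / 2))).re else (x (pt (i / 2))).im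

/-- vector with given real coordinates -/
def mkV (g : ℕ → ℤ) : RuVec :=
  fun p => ⟨g (2 * (4 * p.1.val + p.2.val)), g (2 * (4 * p.1.val + p.2.val) + 1)⟩

theorem cd_mkV (g : ℕ → ℤ) {i : ℕ} (hi : i < 56) : cd (mkV g) i = g i := by
  interval_cases i <;> rfl

theorem mkV_cd (x : RuVec) : mkV (cd x) = x := by
  funext p
  obtain ⟨a, b⟩ := p
  fin_cases a <;> fin_cases b <;> rfl

theorem cd_ext {x y : RuVec} (h : ∀ i < 56, cd x i = cd y i) : x = y := by
  rw [← mkV_cd x, ← mkV_cd y]
  funext p
  obtain ⟨a, b⟩ := p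
  have ha := a.2
  have hb := b.2
  unfold mkV
  dsimp only
  rw [h _ (by omega), h _ (by omega)]

theorem cd_add (x y : RuVec) (i : ℕ) : cd (x + y) i = cd x i + cd y i := by
  unfold cd
  split_ifs <;> simp

theorem cd_neg (x : RuVec) (i : ℕ) : cd (-x) i = -cd x i := by
  unfold cd
  split_ifs <;> simp

theorem cd_sub (x y : RuVec) (i : ℕ) : cd (x - y) i = cd x i - cd y i := by
  unfold cd
  split_ifs <;> simp

theorem cd_zero (i : ℕ) : cd 0 i = 0 := by
  unfold cd
  split_ifs <;> simp

theorem cd_zsmul (n : ℤ) (x : RuVec) (i : ℕ) : cd (n • x) i = n * cd x i := by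
  unfold cd
  split_ifs <;> simp

theorem cd_sum {ι : Type*} (s : Finset ι) (f : ι → RuVec) (i : ℕ) : cd (∑ j ∈ s, f j) i = ∑ j ∈ s, cd (f j) i := by
  classical
  induction s using Finset.induction_on with
  | empty => simp [cd_zero]
  | insert a s ha ih => rw [sum_insert ha, sum_insert ha, cd_add, ih]

/-- real inner product -/
def rip (x y : RuVec) : ℤ := ∑ i ∈ range 56, cd x i * cd y i

theorem sum_pairs (g : ℕ → ℤ) (n : ℕ) : ∑ i ∈ range (2 * n), g i = ∑ k ∈ range n, (g (2 * k) + g (2 * k + 1)) := by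
  induction n with
  | zero => simp
  | succ n ih =>
    rw [show 2 * (n + 1) = 2 * n + 1 + 1 by ring, sum_range_succ, sum_range_succ, ih, sum_range_succ]
    ring

theorem sum_pt (h : RuIdx → ℤ) : ∑ p, h p = ∑ k ∈ range 28, h (pt k) := by
  rw [sum_range]
  have e : ∀ p : Fin 7 × Fin 4, pt (finProdFinEquiv p).val = p := by decide
  exact Fintype.sum_equiv (finProdFinEquiv : Fin 7 × Fin 4 ≃ Fin 28) _ (fun k : Fin 28 => h (pt k)) fun p => by
    rw [e p]

theorem ruNorm_eq (x : RuVec) : ruNorm x = rip x x := by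
  unfold ruNorm rip
  rw [sum_pt, show 56 = 2 * 28 from rfl, sum_pairs]
  refine sum_congr rfl fun k _ => ?_
  have h1 : cd x (2 * k) = (x (pt k)).re := by
    unfold cd
    rw [if_pos (by omega), show 2 * k / 2 = k by omega]
  have h2 : cd x (2 * k + 1) = (x (pt k)).im := by
    unfold cd
    rw [if_neg (by omega), show (2 * k + 1) / 2 = k by omega]
  rw [h1, h2, Zsqrtd.norm_def]
  ring

theorem rip_add_left (x y z : RuVec) : rip (x + y) z = rip x z + rip y z := by
  unfold rip
  rw [← sum_add_distrib]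
  exact sum_congr rfl fun i _ => by rw [cd_add]; ring

theorem rip_comm (x y : RuVec) : rip x y = rip y x := sum_congr rfl fun i _ => mul_comm _ _

theorem rip_add_right (x y z : RuVec) : rip x (y + z) = rip x y + rip x z := by
  rw [rip_comm, rip_add_left, rip_comm y, rip_comm z]

theorem norm_add (x y : RuVec) : ruNorm (x + y) = ruNorm x + ruNorm y + 2 * rip x y := by
  rw [ruNorm_eq, ruNorm_eq, ruNorm_eq, rip_add_left, rip_add_right, rip_add_right, rip_comm y x]
  ring

/-- operation table: source position -/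
def pm (o i : ℕ) : ℕ :=
  if o = 0 then (if i % 2 = 0 then i + 1 else i - 1)
  else if o = 1 then 8 * (i / 8) + [3, 2, 1, 0, 6, 7, 4, 5].getD (i % 8) 0
  else if o = 2 then 8 * (i / 8) + [5, 4, 6, 7, 1, 0, 2, 3].getD (i % 8) 0
  else if o = 3 then i
  else (i + 8) % 56

/-- operation table: sign -/
def sg (o i : ℕ) : Bool :=
  if o = 0 then i % 2 == 0
  else if o = 1 then [true, false, true, false, false, false, true, true].getD (i % 8) false
  else if o = 2 then [true, false, true, true, true, false, false, false].getD (i % 8) false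
  else if o = 3 then [0, 3, 5, 6].contains (i / 8)
  else false

/-- the operations -/
def op (o : ℕ) (x : RuVec) : RuVec :=
  match o with
  | 0 => gI • x
  | 1 => ruRj x
  | 2 => ruRk x
  | 3 => ruSign x
  | _ => ruShift x

/-- signed value -/
def sv (b : Bool) (z : ℤ) : ℤ := if b = true then -z else z

theorem gI_re (z : GaussianInt) : (gI * z).re = -z.im := by simp [gI]

theorem gI_im (z : GaussianInt) : (gI * z).im = z.re := by simp [gI]

theorem cd_op (o : ℕ) (ho : o < 5) (x : RuVec) {i : ℕ} (hi : i < 56) : cd (op o x) i = sv (sg o i) (cd x (pm o i)) := by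
  interval_cases o <;> interval_cases i <;> first | rfl | exact gI_re _ | exact gI_im _

theorem pm_lt {o i : ℕ} (ho : o < 5) (hi : i < 56) : pm o i < 56 := by
  have h : ∀ o < 5, ∀ i < 56, pm o i < 56 := by decide +kernel
  exact h o ho i hi

end Cfsg.Agent.H90.RuL
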