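import Cfsg.Agent.H90.RuL.Span
import Cfsg.Agent.H90.RuL.Data2

/-!
Exclusive-or arithmetic for the enumeration of the minimal vectors (owner: helper90).
-/

set_option autoImplicit false
set_option linter.unusedSimpArgs false

namespace Cfsg.Agent.H90.RuL

open Finset

local notation "sel(" c ", " a ", " b ")" => @Bool.rec (fun _ => Bool) b a c
local notation "seln(" c ", " a ", " b ")" => @Bool.rec (fun _ => Nat) b a c
local notation "sell(" c ", " a ", " b ")" => @Bool.rec (fun _ => List Nat) b a c

/-- bits at multiples of `w` -/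
theorem tb_sum (w : ℕ) (hw : 0 < w) (b : ℕ → Bool) (n p : ℕ) :
    (∑ k ∈ range n, (b k).toNat * 2 ^ (w * k)).testBit p = (decide (p % w = 0) && decide (p / w < n) && b (p / w)) ∧
    ∑ k ∈ range n, (b k).toNat * 2 ^ (w * k) < 2 ^ (w * n) := by
  induction n with
  | zero => simp
  | succ n ih =>
    obtain ⟨h1, h2⟩ := ih
    rw [sum_range_succ]
    refine ⟨?_, ?_⟩
    · rw [add_comm, mul_comm, Nat.testBit_two_pow_mul_add _ h2]
      split_ifs with h3
      · rw [h1]
        by_cases h4 : p % w = 0
        · have h5 : p / w < n := by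
            rw [Nat.div_lt_iff_lt_mul hw, mul_comm]
            exact h3
          simp [h4, h5, Nat.lt_succ_of_lt h5]
        · simp [h4]
      · have h3' : w * n ≤ p := Nat.le_of_not_lt h3
        by_cases h4 : p = w * n
        · subst h4
          rw [Nat.sub_self, Nat.mul_mod_right, Nat.mul_div_cancel_left _ hw]
          cases b n <;> simp
        · have h5 : ((b n).toNat).testBit (p - w * n) = false := by
            obtain ⟨m, hm⟩ : ∃ m, p - w * n = m + 1 := ⟨p - w * n - 1, by omega⟩
            rw [hm]
            cases b n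
            · simp
            · show Nat.testBit 1 (m + 1) = false
              rw [Nat.testBit_succ]
              simp
          rw [h5]
          symm
          by_contra hc
          simp only [Bool.not_eq_false, Bool.and_eq_true, decide_eq_true_eq] at hc
          obtain ⟨⟨h6, h7⟩, _⟩ := hc
          have h8 := Nat.div_add_mod p w
          rw [h6, add_zero] at h8
          have h9 : p / w ≤ n := by omega
          have h10 : w * (p / w) ≤ w * n := Nat.mul_le_mul_left _ h9
          omega
    · have h6 : (b n).toNat ≤ 1 := by cases b n <;> simp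
      have h7 : 2 ^ (w * n) * 2 ≤ 2 ^ (w * (n + 1)) := by
        rw [← pow_succ]
        exact Nat.pow_le_pow_right (by norm_num) (by rw [Nat.mul_add]; omega)
      have h8 : (b n).toNat * 2 ^ (w * n) ≤ 1 * 2 ^ (w * n) := Nat.mul_le_mul_right _ h6
      omega

/-- the number with given bits -/
def oB (d : ℕ → Bool) : ℕ := ∑ k ∈ range 56, (d k).toNat * 2 ^ (1 * k)

theorem tb_oB (d : ℕ → Bool) (p : ℕ) : (oB d).testBit p = (decide (p < 56) && d p) := by
  unfold oB
  rw [(tb_sum 1 (by norm_num) d 56 p).1]
  simp [Nat.mod_one]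

theorem oB_lt (d : ℕ → Bool) : oB d < 2 ^ 56 := (tb_sum 1 (by norm_num) d 56 0).2

/-! ### spans -/

/-- membership in the span -/
def IS : List ℕ → ℕ → Prop
  | [], W => W = 0
  | u :: us, W => IS us W ∨ IS us (W ^^^ u)

theorem IS_zero (l : List ℕ) : IS l 0 := by
  induction l with
  | nil => rfl
  | cons u us ih => exact Or.inl ih

theorem xor_r (a b c : ℕ) : a ^^^ b ^^^ c = a ^^^ c ^^^ b := by
  rw [Nat.xor_assoc, Nat.xor_comm b c, Nat.xor_assoc]

theorem xor_x (a b : ℕ) : a ^^^ b ^^^ b = a := by
  rw [Nat.xor_assoc, Nat.xor_self, Nat.xor_zero]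

theorem IS_xor {l : List ℕ} {a b : ℕ} (ha : IS l a) (hb : IS l b) : IS l (a ^^^ b) := by
  induction l generalizing a b with
  | nil =>
    have ha : a = 0 := ha
    have hb : b = 0 := hb
    subst ha
    subst hb
    rfl
  | cons u us ih =>
    rcases ha with ha | ha <;> rcases hb with hb | hb
    · exact Or.inl (ih ha hb)
    · refine Or.inr ?_
      rw [Nat.xor_assoc]
      exact ih ha hb
    · refine Or.inr ?_
      rw [xor_r]
      exact ih ha hb
    · refine Or.inl ?_
      have := ih ha hb
      rwa [show a ^^^ u ^^^ (b ^^^ u) = a ^^^ b by rw [← Nat.xor_assoc, xor_r a u b, xor_x]] at this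

theorem IS_mem {l : List ℕ} {u : ℕ} (h : u ∈ l) : IS l u := by
  induction l with
  | nil => simp at h
  | cons v us ih =>
    rcases List.mem_cons.1 h with rfl | h
    · refine Or.inr ?_
      rw [Nat.xor_self]
      exact IS_zero _
    · exact Or.inl (ih h)

theorem IS_lt {n : ℕ} {l : List ℕ} (h : ∀ u ∈ l, u < 2 ^ n) {y : ℕ} (hy : IS l y) : y < 2 ^ n := by
  induction l generalizing y with
  | nil =>
    have : y = 0 := hy
    rw [this]
    positivity
  | cons u us ih =>
    rcases hy with hy | hy
    · exact ih (fun v hv => h v (by simp [hv])) hy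
    · have h1 := ih (fun v hv => h v (by simp [hv])) hy
      have := Nat.xor_lt_two_pow h1 (h u (by simp))
      rwa [xor_x] at this

/-- linear map killing a bit -/
def TR (p k y : ℕ) : ℕ := bif y.testBit k then y ^^^ p else y

theorem TR_xor (p k a b : ℕ) : TR p k (a ^^^ b) = TR p k a ^^^ TR p k b := by
  unfold TR
  rw [Nat.testBit_xor]
  cases a.testBit k <;> cases b.testBit k <;> simp
  · rw [Nat.xor_assoc]
  · rw [xor_r]
  · rw [← Nat.xor_assoc, xor_r a p b, xor_x]

theorem IS_map {l : List ℕ} {T : ℕ → ℕ} (hT : ∀ a b, T (a ^^^ b) = T a ^^^ T b) {y : ℕ} (h : IS l y) :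
    IS (l.map T) (T y) := by
  have h0 : T 0 = 0 := by
    have := hT 0 0
    rwa [Nat.xor_self, Nat.xor_self] at this
  induction l generalizing y with
  | nil =>
    have : y = 0 := h
    rw [this, h0]
    rfl
  | cons u us ih =>
    rcases h with h | h
    · exact Or.inl (ih h)
    · refine Or.inr ?_
      rw [← hT]
      exact ih h

/-- the span as a list -/
def spl : List ℕ → List ℕ
  | [] => [0]
  | u :: us => spl us ++ (spl us).map (· ^^^ u)

theorem spl_len (l : List ℕ) : (spl l).length = 2 ^ l.length := by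
  induction l with
  | nil => rfl
  | cons u us ih => simp [spl, ih, pow_succ, mul_two]

theorem mem_spl {l : List ℕ} {y : ℕ} (h : IS l y) : y ∈ spl l := by
  induction l generalizing y with
  | nil =>
    have : y = 0 := h
    simp [spl, this]
  | cons u us ih =>
    rcases h with h | h
    · exact List.mem_append_left _ (ih h)
    · refine List.mem_append_right _ (List.mem_map.2 ⟨_, ih h, ?_⟩)
      exact xor_x _ _

/-- the linear map killing a bit, evaluated by the kernel -/
noncomputable def TRk (p k y : Nat) : Nat :=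
  seln(Nat.beq (Nat.land (Nat.shiftRight y k) 1) 0, y, Nat.xor y p)

theorem TRk_eq (p k y : ℕ) : TRk p k y = TR p k y := by
  unfold TRk TR
  rw [Nat.testBit_eq_decide_div_mod_eq]
  rw [show Nat.land (Nat.shiftRight y k) 1 = (y >>> k) &&& (2 ^ 1 - 1) from rfl, Nat.and_two_pow_sub_one_eq_mod,
    Nat.shiftRight_eq_div_pow, pow_one]
  have h := Nat.mod_two_eq_zero_or_one (y / 2 ^ k)
  rcases h with h | h <;> rw [h] <;> rfl

/-- mapping over a list -/
noncomputable def mapk (f : Nat → Nat) (l : List Nat) : List Nat :=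
  @List.rec Nat (fun _ => List Nat) [] (fun y _ ih => List.cons (f y) ih) l

theorem mapk_eq (f : ℕ → ℕ) (l : List ℕ) : mapk f l = l.map f := by
  induction l with
  | nil => rfl
  | cons y l ih =>
    show f y :: mapk f l = f y :: l.map f
    rw [ih]

/-- elimination: `2 ^ free` or `0` -/
noncomputable def res (n : Nat) : List Nat → Nat → Nat → Nat :=
  @Nat.rec (fun _ => List Nat → Nat → Nat → Nat) (fun _ _ _ => 1099511627776)
    (fun _ ih B D0 c => @List.rec Nat (fun _ => Nat)
      (seln(Nat.ble 72057594037927936 D0, 0, Nat.pow 2 c))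
      (fun p B' _ => seln(Nat.ble 72057594037927936 p,
        ih (mapk (TRk p (Nat.log2 p)) B') (TRk p (Nat.log2 p) D0) c, ih B' D0 (Nat.succ c))) B) n

theorem res_nil (n D0 c : ℕ) : res (n + 1) [] D0 c = seln(Nat.ble 72057594037927936 D0, 0, Nat.pow 2 c) := rfl

theorem res_cons (n p : ℕ) (B' : List ℕ) (D0 c : ℕ) : res (n + 1) (p :: B') D0 c =
    seln(Nat.ble 72057594037927936 p, res n (mapk (TRk p (Nat.log2 p)) B') (TRk p (Nat.log2 p) D0) c,
      res n B' D0 (Nat.succ c)) := rfl

theorem pow56 : (2 : ℕ) ^ 56 = 72057594037927936 := by norm_num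

theorem res_sound (n : ℕ) : ∀ (B : List ℕ) (D0 c : ℕ), res n B D0 c < 1099511627776 → ∀ F : List ℕ,
    (∀ u ∈ F, u < 2 ^ 56) → F.length = c → ∃ l : List ℕ, l.length ≤ res n B D0 c ∧
      ∀ D < 2 ^ 56, IS (F ++ B) (D ^^^ D0) → D ∈ l := by
  induction n with
  | zero =>
    intro B D0 c h
    exact absurd h (lt_irrefl _)
  | succ n ih =>
    intro B D0 c h F hF hc
    cases B with
    | nil =>
      rw [res_nil] at h ⊢
      cases hD : Nat.ble 72057594037927936 D0
      · rw [hD] at h
        refine ⟨(spl F).map (· ^^^ D0), ?_, ?_⟩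
        · rw [List.length_map, spl_len, hc]
          exact le_rfl
        · intro D hD1 hD2
          rw [List.append_nil] at hD2
          exact List.mem_map.2 ⟨_, mem_spl hD2, xor_x _ _⟩
      · refine ⟨[], Nat.zero_le _, ?_⟩
        intro D hD1 hD2
        exfalso
        rw [List.append_nil] at hD2
        have h1 := IS_lt hF hD2
        have h2 := Nat.xor_lt_two_pow hD1 h1
        rw [← Nat.xor_assoc, Nat.xor_self, Nat.zero_xor, pow56] at h2
        have := Nat.le_of_ble_eq_true hD
        omega
    | cons p B' =>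
      rw [res_cons] at h ⊢
      cases hp : Nat.ble 72057594037927936 p
      · rw [hp] at h
        have hp' : p < 2 ^ 56 := by
          rw [pow56]
          exact ble_false hp
        obtain ⟨l, h1, h2⟩ := ih B' D0 (c + 1) h (F ++ [p]) (fun u hu => by
          rcases List.mem_append.1 hu with hu | hu
          · exact hF u hu
          · rw [List.mem_singleton.1 hu]; exact hp') (by simp [hc])
        refine ⟨l, h1, fun D hD1 hD2 => h2 D hD1 ?_⟩
        rwa [List.append_assoc]
      · rw [hp] at h
        have hp' := Nat.le_of_ble_eq_true hp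
        have hk : 56 ≤ Nat.log2 p := (Nat.le_log2 (by omega)).2 (by rw [pow56]; exact hp')
        obtain ⟨l, h1, h2⟩ := ih _ _ c h F hF hc
        refine ⟨l, h1, fun D hD1 hD2 => h2 D hD1 ?_⟩
        have hsm : ∀ u < 2 ^ 56, TR p (Nat.log2 p) u = u := by
          intro u hu
          unfold TR
          rw [Nat.testBit_lt_two_pow (lt_of_lt_of_le hu (Nat.pow_le_pow_right (by norm_num) hk))]
          rfl
        have h3 := IS_map (TR_xor p (Nat.log2 p)) hD2
        rw [TR_xor, hsm D hD1, List.map_append, List.map_cons,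
          List.map_congr_left (g := id) (fun u hu => hsm u (hF u hu)), List.map_id] at h3
        have h4 : TR p (Nat.log2 p) p = 0 := by
          unfold TR
          rw [Nat.testBit_log2 (by omega)]
          exact Nat.xor_self p
        rw [h4] at h3
        rw [TRk_eq, mapk_eq, show TRk p (Nat.log2 p) = TR p (Nat.log2 p) from funext (TRk_eq _ _)]
        have h5 : ∀ (F' B'' : List ℕ) (y : ℕ), IS (F' ++ 0 :: B'') y → IS (F' ++ B'') y := by
          intro F'
          induction F' with
          | nil =>
            intro B'' y hy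
            rcases hy with hy | hy
            · exact hy
            · rwa [Nat.xor_zero] at hy
          | cons a F' ihF =>
            intro B'' y hy
            rcases hy with hy | hy
            · exact Or.inl (ihF _ _ hy)
            · exact Or.inr (ihF _ _ hy)
        exact h5 _ _ _ h3

/-! ### selected exclusive or -/

/-- exclusive or of the selected columns -/
def XL : List ℕ → (ℕ → Bool) → ℕ
  | [], _ => 0
  | c :: cs, d => (bif d 0 then c else 0) ^^^ XL cs (fun i => d (i + 1))

theorem tb_XL (l : List ℕ) (d : ℕ → Bool) (p : ℕ) :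
    (XL l d).testBit p = decide ((∑ i ∈ range l.length, (d i && (l.getD i 0).testBit p).toNat) % 2 = 1) := by
  induction l generalizing d with
  | nil => simp [XL]
  | cons c cs ih =>
    rw [XL, Nat.testBit_xor, ih, List.length_cons, sum_range_succ']
    simp only [List.getD_cons_succ, List.getD_cons_zero]
    generalize ∑ i ∈ range cs.length, (d (i + 1) && (cs.getD i 0).testBit p).toNat = s
    have h := Nat.mod_two_eq_zero_or_one s
    cases hd : d 0 <;> cases hc : c.testBit p <;> rcases h with h | h <;> simp [hd, hc, h, Nat.add_mod]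

theorem XL_split (l : List ℕ) (d b : ℕ → Bool) :
    XL l d = XL l (fun i => d i && b i) ^^^ XL l (fun i => d i && !b i) := by
  induction l generalizing d b with
  | nil => simp [XL]
  | cons c cs ih =>
    show (bif d 0 then c else 0) ^^^ XL cs (fun i => d (i + 1)) =
      ((bif (d 0 && b 0) then c else 0) ^^^ XL cs (fun i => d (i + 1) && b (i + 1))) ^^^
      ((bif (d 0 && !b 0) then c else 0) ^^^ XL cs (fun i => d (i + 1) && !b (i + 1)))
    rw [ih (fun i => d (i + 1)) (fun i => b (i + 1))]
    generalize XL cs (fun i => d (i + 1) && b (i + 1)) = s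
    generalize XL cs (fun i => d (i + 1) && !b (i + 1)) = t
    cases d 0 <;> cases b 0 <;> simp [Nat.xor_assoc]
    rw [← Nat.xor_assoc s c t, Nat.xor_comm s c, Nat.xor_assoc]

/-- columns selected by the bits of `W` -/
noncomputable def bs (cols : List Nat) : Nat → List Nat :=
  @List.rec Nat (fun _ => Nat → List Nat) (fun _ => [])
    (fun c _ ih W => sell(Nat.beq (Nat.land W 1) 0, ih (Nat.shiftRight W 1), List.cons c (ih (Nat.shiftRight W 1)))) cols

/-- columns not selected by the bits of `W` -/
noncomputable def cs (cols : List Nat) : Nat → List Nat :=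
  @List.rec Nat (fun _ => Nat → List Nat) (fun _ => [])
    (fun c _ ih W => sell(Nat.beq (Nat.land W 1) 0, List.cons c (ih (Nat.shiftRight W 1)), ih (Nat.shiftRight W 1))) cols

/-- sum selected by the bits of `W` -/
noncomputable def sl (cols : List Nat) : Nat → Nat :=
  @List.rec Nat (fun _ => Nat → Nat) (fun _ => 0)
    (fun c _ ih W => seln(Nat.beq (Nat.land W 1) 0, ih (Nat.shiftRight W 1), Nat.add c (ih (Nat.shiftRight W 1)))) cols

theorem bit0 (W : ℕ) : Nat.beq (Nat.land W 1) 0 = !W.testBit 0 := by
  rw [show Nat.land W 1 = W &&& (2 ^ 1 - 1) from rfl, Nat.and_two_pow_sub_one_eq_mod, pow_one,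
    Nat.testBit_zero]
  rcases Nat.mod_two_eq_zero_or_one W with h | h <;> rw [h] <;> rfl

theorem bs_cons (c : ℕ) (l : List ℕ) (W : ℕ) : bs (c :: l) W = bif W.testBit 0 then c :: bs l (W >>> 1) else bs l (W >>> 1) := by
  have h : bs (c :: l) W = sell(Nat.beq (Nat.land W 1) 0, bs l (W >>> 1), c :: bs l (W >>> 1)) := rfl
  rw [h, bit0]
  cases W.testBit 0 <;> rfl

theorem cs_cons (c : ℕ) (l : List ℕ) (W : ℕ) : cs (c :: l) W = bif W.testBit 0 then cs l (W >>> 1) else c :: cs l (W >>> 1) := by
  have h : cs (c :: l) W = sell(Nat.beq (Nat.land W 1) 0, c :: cs l (W >>> 1), cs l (W >>> 1)) := rfl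
  rw [h, bit0]
  cases W.testBit 0 <;> rfl

theorem sl_cons (c : ℕ) (l : List ℕ) (W : ℕ) : sl (c :: l) W = bif W.testBit 0 then c + sl l (W >>> 1) else sl l (W >>> 1) := by
  have h : sl (c :: l) W = seln(Nat.beq (Nat.land W 1) 0, sl l (W >>> 1), c + sl l (W >>> 1)) := rfl
  rw [h, bit0]
  cases W.testBit 0 <;> rfl

theorem tb_sh (W i : ℕ) : (W >>> 1).testBit i = W.testBit (i + 1) := by
  rw [Nat.testBit_shiftRight, add_comm]

theorem IS_bs (l : List ℕ) (W : ℕ) (d : ℕ → Bool) : IS (bs l W) (XL l (fun i => d i && W.testBit i)) := by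
  induction l generalizing W d with
  | nil => rfl
  | cons c cs ih =>
    have h := ih (W >>> 1) (fun i => d (i + 1))
    simp only [tb_sh] at h
    rw [bs_cons]
    show IS _ ((bif (d 0 && W.testBit 0) then c else 0) ^^^ XL cs (fun i => d (i + 1) && W.testBit (i + 1)))
    cases hW : W.testBit 0 <;> cases hd : d 0
    · simpa using h
    · simpa using h
    · refine Or.inl ?_
      simpa using h
    · refine Or.inr ?_
      simp only [Bool.and_self, cond_true]
      rw [Nat.xor_comm c, xor_x]
      exact h

theorem sl_eq (l : List ℕ) (W : ℕ) : sl l W = ∑ i ∈ range l.length, (W.testBit i).toNat * l.getD i 0 := by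
  induction l generalizing W with
  | nil => rfl
  | cons c cs ih =>
    rw [sl_cons, ih, List.length_cons, sum_range_succ']
    simp only [List.getD_cons_succ, List.getD_cons_zero, tb_sh]
    cases W.testBit 0 <;> simp [add_comm]

/-- exclusive or of at most `m` members -/
def SS : List ℕ → ℕ → ℕ → Prop
  | [], _, y => y = 0
  | c :: cs, m, y => SS cs m y ∨ ∃ m', m = m' + 1 ∧ SS cs m' (y ^^^ c)

theorem SS_cs (l : List ℕ) (W : ℕ) (d : ℕ → Bool) (m : ℕ)
    (h : ∑ i ∈ range l.length, (d i && !W.testBit i).toNat ≤ m) : SS (cs l W) m (XL l (fun i => d i && !W.testBit i)) := by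
  induction l generalizing W d m with
  | nil => rfl
  | cons c cs ih =>
    rw [List.length_cons, sum_range_succ'] at h
    have h' := fun m hm => ih (W >>> 1) (fun i => d (i + 1)) m hm
    simp only [tb_sh] at h'
    rw [cs_cons]
    show SS _ _ ((bif (d 0 && !W.testBit 0) then c else 0) ^^^ XL cs (fun i => d (i + 1) && !W.testBit (i + 1)))
    cases hW : W.testBit 0 <;> cases hd : d 0
    · refine Or.inl ?_
      simp only [Bool.false_and, cond_false, Nat.zero_xor]
      exact h' m (by omega)
    · simp only [hW, hd, Bool.not_false, Bool.and_self, Bool.toNat_true] at h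
      refine Or.inr ⟨m - 1, by omega, ?_⟩
      simp only [Bool.not_false, Bool.and_self, cond_true]
      rw [Nat.xor_comm c, xor_x]
      exact h' (m - 1) (by omega)
    · simp only [Bool.false_and, cond_false, Nat.zero_xor, cond_true]
      exact h' m (by omega)
    · simp only [Bool.not_true, Bool.and_false, cond_false, Nat.zero_xor, cond_true]
      exact h' m (by omega)

/-- check of all non-empty sums of at most `m` columns -/
noncomputable def zne (chk : Nat → Bool) (m : Nat) : List Nat → Nat → Bool :=
  @Nat.rec (fun _ => List Nat → Nat → Bool) (fun _ _ => true)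
    (fun _ ih l => @List.rec Nat (fun _ => Nat → Bool) (fun _ => true)
      (fun c cs ihl D0 => sel(chk (Nat.xor D0 c), sel(ih cs (Nat.xor D0 c), ihl D0, false), false)) l) m

theorem SS_mono {l : List ℕ} {m m' y : ℕ} (h : m ≤ m') (hy : SS l m y) : SS l m' y := by
  induction l generalizing m m' y with
  | nil => exact hy
  | cons c cs ih =>
    rcases hy with hy | ⟨n, h1, h2⟩
    · exact Or.inl (ih h hy)
    · exact Or.inr ⟨m' - 1, by omega, ih (by omega) h2⟩

theorem SS_zero {l : List ℕ} {y : ℕ} (hy : SS l 0 y) : y = 0 := by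
  induction l generalizing y with
  | nil => exact hy
  | cons c cs ih =>
    rcases hy with hy | ⟨n, h1, h2⟩
    · exact ih hy
    · omega

theorem zne_sound {chk : ℕ → Bool} (m : ℕ) : ∀ (l : List ℕ) (D0 : ℕ), zne chk m l D0 = true →
    ∀ y, SS l m y → y = 0 ∨ chk (D0 ^^^ y) = true := by
  induction m with
  | zero =>
    intro l D0 _ y hy
    exact Or.inl (SS_zero hy)
  | succ m ih =>
    intro l
    induction l with
    | nil =>
      intro D0 _ y hy
      exact Or.inl hy
    | cons c cs ihl =>
      intro D0 h y hy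
      obtain ⟨h1, h2⟩ := sel_ff (show sel(chk (Nat.xor D0 c), sel(zne chk m cs (Nat.xor D0 c),
        zne chk (m + 1) cs D0, false), false) = true from h)
      obtain ⟨h3, h4⟩ := sel_ff h2
      rcases hy with hy | ⟨n, h5, h6⟩
      · exact ihl D0 h4 y hy
      · have h7 : n = m := by omega
        rw [h7] at h6
        rcases ih cs _ h3 _ h6 with h8 | h8
        · have h9 : y = c := by
            have := congrArg (· ^^^ c) h8
            simp only [xor_x, Nat.zero_xor] at this
            exact this
          rw [h9]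
          exact Or.inr h1
        · right
          rwa [show Nat.xor D0 c ^^^ (y ^^^ c) = D0 ^^^ y from by
            show D0 ^^^ c ^^^ (y ^^^ c) = D0 ^^^ y
            rw [← Nat.xor_assoc, xor_r D0 c y, xor_x]] at h8

/-! ### number of bits -/

/-- number of bits of a word of 56 bits -/
noncomputable def pc (W : Nat) : Nat :=
  Nat.mod (Nat.add (Nat.add (Nat.add (Nat.land W 282578800148737) (Nat.land (Nat.shiftRight W 1) 282578800148737))
      (Nat.add (Nat.land (Nat.shiftRight W 2) 282578800148737) (Nat.land (Nat.shiftRight W 3) 282578800148737)))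
    (Nat.add (Nat.add (Nat.land (Nat.shiftRight W 4) 282578800148737) (Nat.land (Nat.shiftRight W 5) 282578800148737))
      (Nat.add (Nat.land (Nat.shiftRight W 6) 282578800148737) (Nat.land (Nat.shiftRight W 7) 282578800148737)))) 255

theorem mask8 : (282578800148737 : ℕ) = ∑ k ∈ range 7, (true).toNat * 2 ^ (8 * k) := by decide +kernel

theorem land8 (W j : ℕ) : (W >>> j) &&& 282578800148737 = ∑ k ∈ range 7, (W.testBit (8 * k + j)).toNat * 2 ^ (8 * k) := by
  apply Nat.eq_of_testBit_eq
  intro p
  rw [Nat.testBit_and, Nat.testBit_shiftRight, mask8, (tb_sum 8 (by norm_num) (fun _ => true) 7 p).1,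
    (tb_sum 8 (by norm_num) (fun k => W.testBit (8 * k + j)) 7 p).1]
  by_cases h : p % 8 = 0
  · have h1 : 8 * (p / 8) + j = j + p := by omega
    rw [h1]
    cases W.testBit (j + p) <;> simp
  · simp [h]

theorem land8_mod (W j : ℕ) : ((W >>> j) &&& 282578800148737) % 255 = (∑ k ∈ range 7, (W.testBit (8 * k + j)).toNat) % 255 := by
  rw [land8]
  have h : ∀ k, 2 ^ (8 * k) % 255 = 1 := by
    intro k
    rw [pow_mul, Nat.pow_mod]
    norm_num
  rw [Finset.sum_nat_mod, Finset.sum_nat_mod (range 7) 255 (fun k => (W.testBit (8 * k + j)).toNat)]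
  congr 1
  refine sum_congr rfl fun k _ => ?_
  rw [Nat.mul_mod, h k]
  simp

theorem sum56 (g : ℕ → ℕ) : ∑ i ∈ range 56, g i = (∑ k ∈ range 7, g (8 * k + 0)) + (∑ k ∈ range 7, g (8 * k + 1)) +
    (∑ k ∈ range 7, g (8 * k + 2)) + (∑ k ∈ range 7, g (8 * k + 3)) + (∑ k ∈ range 7, g (8 * k + 4)) +
    (∑ k ∈ range 7, g (8 * k + 5)) + (∑ k ∈ range 7, g (8 * k + 6)) + (∑ k ∈ range 7, g (8 * k + 7)) := by
  simp only [sum_range_succ, sum_range_zero, Nat.reduceMul, Nat.reduceAdd]
  ring

theorem sum7_le {g : ℕ → ℕ} (hg : ∀ i, g i ≤ 1) (j : ℕ) : ∑ k ∈ range 7, g (8 * k + j) ≤ 7 := by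
  have := sum_le_card_nsmul (range 7) (fun k => g (8 * k + j)) 1 fun k _ => hg _
  simpa using this

theorem pc_eq (W : ℕ) : pc W = ∑ i ∈ range 56, (W.testBit i).toNat := by
  have h0 := land8_mod W 0
  have h1 := land8_mod W 1
  have h2 := land8_mod W 2
  have h3 := land8_mod W 3
  have h4 := land8_mod W 4
  have h5 := land8_mod W 5
  have h6 := land8_mod W 6
  have h7 := land8_mod W 7
  rw [Nat.shiftRight_zero] at h0
  have hb : ∀ i, (W.testBit i).toNat ≤ 1 := fun i => by cases W.testBit i <;> simp
  have e : pc W = ((W &&& 282578800148737) + ((W >>> 1) &&& 282578800148737) +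
    (((W >>> 2) &&& 282578800148737) + ((W >>> 3) &&& 282578800148737)) +
    (((W >>> 4) &&& 282578800148737) + ((W >>> 5) &&& 282578800148737) +
    (((W >>> 6) &&& 282578800148737) + ((W >>> 7) &&& 282578800148737)))) % 255 := rfl
  rw [e, sum56 (fun i => (W.testBit i).toNat)]
  have b0 := sum7_le hb 0
  have b1 := sum7_le hb 1
  have b2 := sum7_le hb 2
  have b3 := sum7_le hb 3
  have b4 := sum7_le hb 4
  have b5 := sum7_le hb 5
  have b6 := sum7_le hb 6
  have b7 := sum7_le hb 7

  generalize (W &&& 282578800148737) = a0 at *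
  generalize ((W >>> 1) &&& 282578800148737) = a1 at *
  generalize ((W >>> 2) &&& 282578800148737) = a2 at *
  generalize ((W >>> 3) &&& 282578800148737) = a3 at *
  generalize ((W >>> 4) &&& 282578800148737) = a4 at *
  generalize ((W >>> 5) &&& 282578800148737) = a5 at *
  generalize ((W >>> 6) &&& 282578800148737) = a6 at *
  generalize ((W >>> 7) &&& 282578800148737) = a7 at *
  generalize ∑ k ∈ range 7, (W.testBit (8 * k + 0)).toNat = s0 at *
  generalize ∑ k ∈ range 7, (W.testBit (8 * k + 1)).toNat = s1 at *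
  generalize ∑ k ∈ range 7, (W.testBit (8 * k + 2)).toNat = s2 at *
  generalize ∑ k ∈ range 7, (W.testBit (8 * k + 3)).toNat = s3 at *
  generalize ∑ k ∈ range 7, (W.testBit (8 * k + 4)).toNat = s4 at *
  generalize ∑ k ∈ range 7, (W.testBit (8 * k + 5)).toNat = s5 at *
  generalize ∑ k ∈ range 7, (W.testBit (8 * k + 6)).toNat = s6 at *
  generalize ∑ k ∈ range 7, (W.testBit (8 * k + 7)).toNat = s7 at *
  omega

end Cfsg.Agent.H90.RuL
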