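import Cfsg.Agent.H90.RuL.Pat
import Cfsg.Agent.H90.SiftRu.Data

/-! Checks of the table (owner: helper90). -/

set_option autoImplicit false
set_option maxHeartbeats 400000

namespace Cfsg.Agent.H90.RuL

open Cfsg.Spor Finset Cfsg.Agent.CosetEnum

/-- image check of a point -/
noncomputable def eqvI (CM : List Nat) (KF x i : Nat) : Bool :=
  force (rowV PV i) fun w => force (act SiftRu.P x i) fun j => force (rowV PV j) fun w' => eqv CM KF w w'

theorem eqvI_w {CM : List ℕ} {KF x i : ℕ} (h : eqvI CM KF x i = true) :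
    eqv CM KF (rowV PV i) (rowV PV (act SiftRu.P x i)) = true := by
  unfold eqvI at h
  rw [force_eq, force_eq, force_eq] at h
  exact h

/-- a function with values true on an interval -/
def Tr (f : ℕ → Bool) (lo hi : ℕ) : Prop := ∀ i, lo ≤ i → i < hi → f i = true

theorem Tr.of {f : ℕ → Bool} {lo c hi : ℕ} (h : allN f lo c = true) (hh : hi = lo + c) : Tr f lo hi := by
  subst hh
  exact allN_sound h

theorem Tr.trans {f : ℕ → Bool} {a b c : ℕ} (h : Tr f a b) (h' : Tr f b c) : Tr f a c := fun i h1 h2 => by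
  rcases lt_or_ge i b with h3 | h3
  · exact h i h1 h3
  · exact h' i h3 h2

/-- a value of a sum over an interval -/
def Sm (f : ℕ → ℕ) (lo hi v : ℕ) : Prop := ∑ i ∈ Finset.Ico lo hi, f i = v

theorem Sm.of {f : ℕ → ℕ} {lo c hi v : ℕ} (h : Nat.beq (cn f lo c 0) v = true) (hh : hi = lo + c) : Sm f lo hi v := by
  subst hh
  have h1 := Nat.eq_of_beq_eq_true h
  rw [cn_eq, zero_add] at h1
  unfold Sm
  rw [Finset.sum_Ico_eq_sum_range, Nat.add_sub_cancel_left]
  exact h1

theorem Sm.trans {f : ℕ → ℕ} {a b c u v : ℕ} (h : Sm f a b u) (h' : Sm f b c v) (hab : a ≤ b) (hbc : b ≤ c) : Sm f a c (u + v) := by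
  unfold Sm at *
  rw [← Finset.sum_Ico_consecutive _ hab hbc, h, h']

end Cfsg.Agent.H90.RuL
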