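import Cfsg.Agent.H90.RuL.Bits

/-!
Enumeration of the minimal vectors: soundness (owner: helper90).
-/

set_option autoImplicit false
set_option linter.unusedSimpArgs false
set_option maxHeartbeats 400000

namespace Cfsg.Agent.H90.RuL

open Cfsg.Spor Finset

local notation "sel(" c ", " a ", " b ")" => @Bool.rec (fun _ => Bool) b a c
local notation "seln(" c ", " a ", " b ")" => @Bool.rec (fun _ => Nat) b a c

/-- inner product of functions -/
def dt (f g : ℕ → ℤ) : ℤ := ∑ i ∈ range 56, f i * g i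

theorem dt_comm (f g : ℕ → ℤ) : dt f g = dt g f := sum_congr rfl fun _ _ => mul_comm _ _

theorem dt_add (f g h : ℕ → ℤ) : dt (f + g) h = dt f h + dt g h := by
  unfold dt
  rw [← sum_add_distrib]
  exact sum_congr rfl fun i _ => by rw [Pi.add_apply]; ring

theorem dt_neg (f h : ℕ → ℤ) : dt (-f) h = -dt f h := by
  unfold dt
  rw [← sum_neg_distrib]
  exact sum_congr rfl fun i _ => by rw [Pi.neg_apply]; ring

theorem dt_zero (h : ℕ → ℤ) : dt 0 h = 0 := by simp [dt]

/-- inner product of packed rows -/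
noncomputable def dotN (M N c : Nat) : Nat :=
  @Nat.rec (fun _ => Nat) 0 (fun n ih => Nat.add ih (Nat.mul (dg M n) (dg N n))) c

theorem dotN_eq (M N c : ℕ) : dotN M N c = ∑ i ∈ range c, dg M i * dg N i := by
  induction c with
  | zero => rfl
  | succ n ih =>
    rw [sum_range_succ, ← ih]
    rfl

theorem dt_row (M N : ℕ) : dt (rowf M) (rowf N) = (dotN M N 56 : ℕ) := by
  rw [dotN_eq]
  push_cast
  rfl

theorem rows_dot : ROWS.all (fun M => ROWS.all fun N => Nat.beq (dotN M N 56 % 4) 0) = true := by decide +kernel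

theorem rows_nm : ROWS.all (fun N => Nat.beq (dotN N N 56 % 8) 0) = true := by decide +kernel

theorem dt_D4 {f : ℕ → ℤ} (hf : f ∈ D4) (g : ℕ → ℤ) : (4 : ℤ) ∣ dt f g :=
  dvd_sum fun i hi => Dvd.dvd.mul_right (hf i (mem_range.1 hi)) _

/-- functions with inner product with `g` divisible by 4 -/
def Ag (g : ℕ → ℤ) : AddSubgroup (ℕ → ℤ) where
  carrier := {f | (4 : ℤ) ∣ dt f g}
  zero_mem' := by
    show (4 : ℤ) ∣ dt 0 g
    rw [dt_zero]
    exact dvd_zero _
  add_mem' := fun {a b} ha hb => by
    show (4 : ℤ) ∣ dt (a + b) g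
    rw [dt_add]
    exact dvd_add ha hb
  neg_mem' := fun {a} ha => by
    show (4 : ℤ) ∣ dt (-a) g
    rw [dt_neg]
    exact ha.neg_right

theorem dt_mem {f g : ℕ → ℤ} (hf : f ∈ T ROWS) (hg : g ∈ T ROWS) : (4 : ℤ) ∣ dt f g := by
  have h1 : ∀ N ∈ ROWS, T ROWS ≤ Ag (rowf N) := by
    intro N hN
    refine T_le (fun M hM => ?_) fun f hf => dt_D4 hf _
    show (4 : ℤ) ∣ dt (rowf M) (rowf N)
    rw [dt_row]
    have h2 := List.all_eq_true.1 (List.all_eq_true.1 rows_dot M hM) N hN
    have h3 := Nat.eq_of_beq_eq_true h2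
    omega
  have h2 : T ROWS ≤ Ag g := by
    refine T_le (fun M hM => ?_) fun f hf => dt_D4 hf _
    show (4 : ℤ) ∣ dt (rowf M) g
    rw [dt_comm]
    exact h1 M hM hg
  exact h2 hf

/-- functions of even norm -/
def An : AddSubgroup (ℕ → ℤ) where
  carrier := {f | f ∈ T ROWS ∧ (8 : ℤ) ∣ dt f f}
  zero_mem' := by
    refine ⟨zero_mem _, ?_⟩
    rw [dt_zero]
    exact dvd_zero _
  add_mem' := fun {a b} ha hb => by
    refine ⟨add_mem ha.1 hb.1, ?_⟩
    rw [dt_add, dt_comm a, dt_comm b, dt_add, dt_add, dt_comm b a]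
    have h1 := dt_mem ha.1 hb.1
    have h2 := ha.2
    have h3 := hb.2
    omega
  neg_mem' := fun {a} ha => by
    refine ⟨neg_mem ha.1, ?_⟩
    rw [dt_neg, dt_comm, dt_neg]
    have := ha.2
    omega

theorem nm_mem {f : ℕ → ℤ} (hf : f ∈ T ROWS) : (8 : ℤ) ∣ dt f f := by
  have h : T ROWS ≤ An := by
    refine T_le (fun M hM => ⟨row_mem hM, ?_⟩) fun f hf => ⟨D4_le _ hf, ?_⟩
    · rw [dt_row]
      have h3 := Nat.eq_of_beq_eq_true (List.all_eq_true.1 rows_nm M hM)
      omega
    · refine dvd_sum fun i hi => ?_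
      obtain ⟨c, hc⟩ := hf i (mem_range.1 hi)
      rw [hc]
      exact ⟨2 * c * c, by ring⟩
  exact (h hf).2

theorem norm_dvd {x : RuVec} (hx : x ∈ ruLattice) : (8 : ℤ) ∣ ruNorm x := by
  rw [ruNorm_eq]
  exact nm_mem (mem_L.1 hx)

/-! ### the word of a vector -/

/-- odd positions -/
def bF (f : ℕ → ℤ) (i : ℕ) : Bool := decide (f i % 2 = 1)

/-- positions with residue 2 or 3 -/
def dF (f : ℕ → ℤ) (i : ℕ) : Bool := decide (2 ≤ f i % 4)

/-- the word -/
def par (f : ℕ → ℤ) : ℕ := oB (bF f)

theorem par_add (f g : ℕ → ℤ) : par (f + g) = par f ^^^ par g := by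
  apply Nat.eq_of_testBit_eq
  intro p
  rw [Nat.testBit_xor]
  unfold par
  rw [tb_oB, tb_oB, tb_oB]
  cases decide (p < 56)
  · rfl
  · simp only [Bool.true_and]
    unfold bF
    rw [Pi.add_apply]
    rcases Int.emod_two_eq_zero_or_one (f p) with h1 | h1 <;> rcases Int.emod_two_eq_zero_or_one (g p) with h2 | h2 <;>
      simp [h1, h2, Int.add_emod]

theorem par_neg (f : ℕ → ℤ) : par (-f) = par f := by
  unfold par
  congr 1
  funext i
  unfold bF
  rw [Pi.neg_apply]
  congr 1
  apply propext
  constructor <;> intro h <;> omega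

theorem par_zero : par 0 = 0 := by
  apply Nat.eq_of_testBit_eq
  intro p
  unfold par
  rw [tb_oB]
  simp [bF]

theorem par_D4 {f : ℕ → ℤ} (hf : f ∈ D4) : par f = 0 := by
  apply Nat.eq_of_testBit_eq
  intro p
  unfold par
  rw [tb_oB, Nat.zero_testBit]
  by_cases h : p < 56
  · have := hf p h
    simp only [h, decide_true, Bool.true_and]
    unfold bF
    rw [decide_eq_false_iff_not]
    omega
  · simp [h]

/-- word of a packed row -/
def parN (N : ℕ) : ℕ := oB fun i => Nat.beq (dg N i % 2) 1

theorem par_row (N : ℕ) : par (rowf N) = parN N := by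
  unfold par parN
  congr 1
  funext i
  unfold bF rowf
  rcases Nat.mod_two_eq_zero_or_one (dg N i) with h | h
  · rw [h]
    show _ = false
    rw [decide_eq_false_iff_not]
    omega
  · rw [h]
    show _ = true
    rw [decide_eq_true_iff]
    omega

theorem parU : UR.all (fun N => UB.contains (parN N)) = true := by decide +kernel

theorem parE : ER.all (fun N => Nat.beq (parN N) 0) = true := by decide +kernel

/-- functions whose word is in the span -/
def Ap : AddSubgroup (ℕ → ℤ) where
  carrier := {f | IS UB (par f)}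
  zero_mem' := by
    show IS UB (par 0)
    rw [par_zero]
    exact IS_zero _
  add_mem' := fun {a b} ha hb => by
    show IS UB (par (a + b))
    rw [par_add]
    exact IS_xor ha hb
  neg_mem' := fun {a} ha => by
    show IS UB (par (-a))
    rw [par_neg]
    exact ha

theorem par_mem {f : ℕ → ℤ} (hf : f ∈ T ROWS) : IS UB (par f) := by
  have h : T ROWS ≤ Ap := by
    refine T_le (fun N hN => ?_) fun f hf => ?_
    · show IS UB (par (rowf N))
      rw [par_row]
      rcases List.mem_append.1 hN with h | h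
      · have := List.all_eq_true.1 parU N h
        exact IS_mem (List.contains_iff_mem.1 this)
      · rw [Nat.eq_of_beq_eq_true (List.all_eq_true.1 parE N h)]
        exact IS_zero _
    · show IS UB (par f)
      rw [par_D4 hf]
      exact IS_zero _
  exact h hf

/-! ### the linear system -/

/-- digits of the rows -/
def y (k i : ℕ) : ℕ := dg (UR.getD k 0) i

/-- parity of the digits -/
def yb (k i : ℕ) : Bool := Nat.beq (y k i % 2) 1

theorem colC : COLS.length = 56 ∧ ∀ i < 56, COLS.getD i 0 = 2 ^ 56 * (∑ k ∈ range 19, (yb k i).toNat * 2 ^ (12 * k)) + 2 ^ i := by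
  decide +kernel

theorem ycC : YCS.length = 56 ∧ ∀ i < 56, YCS.getD i 0 = pk (fun k => y k i) 19 := by
  decide +kernel

theorem yb_eq (k i : ℕ) : yb k i = decide (y k i % 2 = 1) := by
  unfold yb
  rcases Nat.mod_two_eq_zero_or_one (y k i) with h | h <;> rw [h] <;> rfl

theorem y_le {k : ℕ} (hk : k < 19) {i : ℕ} (hi : i < 56) : y k i ≤ 3 := by
  refine (okR_sound okUR).2 _ ?_ i hi
  have hl : UR.length = 19 := by decide +kernel
  rw [List.getD_eq_getElem _ _ (by rw [hl]; exact hk)]
  exact List.getElem_mem _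

theorem rowf_y (k i : ℕ) : rowf (UR.getD k 0) i = (y k i : ℤ) := rfl

attribute [local irreducible] y yb COLS YCS UR ER UB

theorem tb_col {i : ℕ} (hi : i < 56) (p : ℕ) : (COLS.getD i 0).testBit p =
    if p < 56 then decide (p = i) else (decide ((p - 56) % 12 = 0) && decide ((p - 56) / 12 < 19) && yb ((p - 56) / 12) i) := by
  rw [colC.2 i hi, Nat.testBit_two_pow_mul_add _ (Nat.pow_lt_pow_right (by norm_num) hi)]
  split_ifs with h
  · rw [Nat.testBit_two_pow]
    congr 1
    exact propext eq_comm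
  · exact (tb_sum 12 (by norm_num) (fun k => yb k i) 19 _).1

/-- mask of the positions -/
def MK : ℕ := 0x1001001001001001001001001001001001001001001001001001001

theorem MK_eq : MK = ∑ k ∈ range 19, (true).toNat * 2 ^ (12 * k) := by decide +kernel

theorem tb_MK (p : ℕ) : MK.testBit p = (decide (p % 12 = 0) && decide (p / 12 < 19)) := by
  rw [MK_eq, (tb_sum 12 (by norm_num) (fun _ => true) 19 p).1, Bool.and_true]

/-- right hand side of the linear system -/
noncomputable def D0f (W : Nat) : Nat := Nat.mul 72057594037927936 (Nat.land (Nat.shiftRight (sl YCS W) 1) MK)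

/-- digit of the sum -/
def Sk (b : ℕ → Bool) (k : ℕ) : ℕ := ∑ i ∈ range 56, (b i).toNat * y k i

theorem Sk_lt (b : ℕ → Bool) {k : ℕ} (hk : k < 19) : Sk b k < 4096 := by
  have h : Sk b k ≤ ∑ i ∈ range 56, 3 := sum_le_sum fun i hi => by
    have := y_le hk (mem_range.1 hi)
    cases b i <;> simp <;> omega
  simp at h
  omega

theorem sl_pk (W : ℕ) : sl YCS W = pk (Sk fun i => W.testBit i) 19 := by
  rw [sl_eq, ycC.1]
  unfold pk Sk
  simp only [sum_mul]
  rw [sum_comm]
  refine sum_congr rfl fun i hi => ?_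
  rw [ycC.2 i (mem_range.1 hi)]
  unfold pk
  rw [mul_sum]
  exact sum_congr rfl fun k _ => by ring

theorem tb_dg (n k r : ℕ) (hr : r < 12) : n.testBit (12 * k + r) = (dg n k).testBit r := by
  unfold dg
  rw [show Nat.land (Nat.shiftRight n (Nat.mul 12 k)) 4095 = (n >>> (12 * k)) &&& (2 ^ 12 - 1) from rfl, Nat.testBit_and,
    Nat.testBit_shiftRight, Nat.testBit_two_pow_sub_one]
  simp [hr]

theorem tb_D0f (W p : ℕ) : (D0f W).testBit p = if p < 56 then false else
    (decide ((p - 56) % 12 = 0) && decide ((p - 56) / 12 < 19) && decide (Sk (fun i => W.testBit i) ((p - 56) / 12) / 2 % 2 = 1)) := by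
  have h1 : D0f W = 2 ^ 56 * ((sl YCS W >>> 1) &&& MK) := by
    rw [pow56]
    rfl
  rw [h1, Nat.testBit_two_pow_mul]
  split_ifs with h
  · simp [Nat.not_le.2 h]
  · rw [Nat.testBit_and, tb_MK, Nat.testBit_shiftRight]
    have h2 : 56 ≤ p := Nat.le_of_not_lt h
    simp only [ge_iff_le, h2, decide_true, Bool.true_and]
    by_cases h3 : (p - 56) % 12 = 0
    · by_cases h4 : (p - 56) / 12 < 19
      · have h5 : 1 + (p - 56) = 12 * ((p - 56) / 12) + 1 := by omega
        rw [h5, tb_dg _ _ _ (by norm_num), sl_pk, dg_pk (fun i hi => Sk_lt _ hi) h4, Nat.testBit_eq_decide_div_mod_eq]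
        simp [h3, h4]
      · simp [h4]
    · simp [h3]

theorem f_mod (f : ℕ → ℤ) (i : ℕ) : (4 : ℤ) ∣ f i - ((bF f i).toNat + 2 * (dF f i).toNat) := by
  unfold bF dF
  have h := Int.emod_nonneg (f i) (show (4 : ℤ) ≠ 0 by norm_num)
  have h' := Int.emod_lt_of_pos (f i) (show (0 : ℤ) < 4 by norm_num)
  by_cases h1 : f i % 2 = 1 <;> by_cases h2 : 2 ≤ f i % 4 <;> simp [h1, h2] <;> omega

theorem sys {f : ℕ → ℤ} (hf : f ∈ T ROWS) {k : ℕ} (hk : k < 19) : (Sk (bF f) k + 2 * Sk (dF f) k) % 4 = 0 := by
  have hl : UR.length = 19 := by decide +kernel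
  have hm : UR.getD k 0 ∈ ROWS := by
    rw [List.getD_eq_getElem _ _ (by rw [hl]; exact hk)]
    exact List.mem_append_left _ (List.getElem_mem _)
  have h1 := dt_mem hf (row_mem hm)
  have h2 : (4 : ℤ) ∣ dt f (rowf (UR.getD k 0)) - ((Sk (bF f) k + 2 * Sk (dF f) k : ℕ) : ℤ) := by
    have : dt f (rowf (UR.getD k 0)) - ((Sk (bF f) k + 2 * Sk (dF f) k : ℕ) : ℤ) =
        ∑ i ∈ range 56, (f i - ((bF f i).toNat + 2 * (dF f i).toNat)) * (y k i : ℤ) := by
      unfold dt Sk
      push_cast
      rw [mul_sum, ← sum_add_distrib, ← sum_sub_distrib]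
      refine sum_congr rfl fun i _ => ?_
      rw [rowf_y]
      ring
    rw [this]
    exact dvd_sum fun i _ => Dvd.dvd.mul_right (f_mod f i) _
  omega

theorem Sk_par (f : ℕ → ℤ) (k : ℕ) : Sk (fun i => (par f).testBit i) k = Sk (bF f) k := by
  unfold Sk
  refine sum_congr rfl fun i hi => ?_
  unfold par
  dsimp only
  rw [tb_oB]
  simp only [mem_range.1 hi, decide_true, Bool.true_and]

theorem Sk_odd (d : ℕ → Bool) (k : ℕ) : (∑ i ∈ range 56, (d i && yb k i).toNat) % 2 = Sk d k % 2 := by
  unfold Sk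
  rw [Finset.sum_nat_mod, Finset.sum_nat_mod (range 56) 2 (fun i => (d i).toNat * y k i)]
  refine congrArg (· % 2) (sum_congr rfl fun i _ => ?_)
  rw [yb_eq]
  generalize y k i = a
  rcases Nat.mod_two_eq_zero_or_one a with h | h <;> cases d i <;> simp [h]

theorem dec_aux (a b : ℕ) (h : (a + 2 * b) % 4 = 0) : decide (a / 2 % 2 = 1) = decide (b % 2 = 1) := by
  rw [decide_eq_decide]
  omega

theorem key {f : ℕ → ℤ} (hf : f ∈ T ROWS) : oB (dF f) ^^^ D0f (par f) = XL COLS (dF f) := by
  apply Nat.eq_of_testBit_eq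
  intro p
  rw [Nat.testBit_xor, tb_oB, tb_D0f, tb_XL, colC.1]
  by_cases hp : p < 56
  · have h1 : ∑ i ∈ range 56, (dF f i && (COLS.getD i 0).testBit p).toNat = (dF f p).toNat := by
      rw [Finset.sum_eq_single p]
      · rw [tb_col hp, if_pos hp]
        simp
      · intro i hi hne
        rw [tb_col (mem_range.1 hi), if_pos hp]
        simp [Ne.symm hne]
      · intro h
        exact absurd (mem_range.2 hp) h
    rw [h1, if_pos hp]
    cases dF f p <;> simp [hp]
  · rw [if_neg hp]
    have h1 : ∑ i ∈ range 56, (dF f i && (COLS.getD i 0).testBit p).toNat = ∑ i ∈ range 56, (dF f i &&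
        (decide ((p - 56) % 12 = 0) && decide ((p - 56) / 12 < 19) && yb ((p - 56) / 12) i)).toNat :=
      sum_congr rfl fun i hi => by rw [tb_col (mem_range.1 hi), if_neg hp]
    rw [h1]
    by_cases h3 : (p - 56) % 12 = 0
    · by_cases h4 : (p - 56) / 12 < 19
      · have h5 := sys hf h4
        simp only [h3, h4, decide_true, Bool.true_and]
        rw [Sk_odd, Sk_par]
        simp only [hp, decide_false, Bool.false_and, Bool.false_xor]
        exact dec_aux _ _ h5
      · simp [h4, hp]
    · simp [h3, hp]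

/-! ### covering by lists -/

/-- the set is contained in a list of length at most `n` -/
def Cov (S : Set RuVec) (n : ℕ) : Prop := ∃ l : List RuVec, l.length ≤ n ∧ ∀ x ∈ S, x ∈ l

theorem Cov.union {S S' : Set RuVec} {m n : ℕ} (h : Cov S m) (h' : Cov S' n) : Cov (S ∪ S') (m + n) := by
  obtain ⟨l, h1, h2⟩ := h
  obtain ⟨l', h3, h4⟩ := h'
  refine ⟨l ++ l', by rw [List.length_append]; omega, ?_⟩
  rintro x (hx | hx)
  · exact List.mem_append_left _ (h2 x hx)
  · exact List.mem_append_right _ (h4 x hx)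

theorem Cov.mono {S S' : Set RuVec} {n : ℕ} (h : Cov S n) (hs : S' ⊆ S) : Cov S' n := by
  obtain ⟨l, h1, h2⟩ := h
  exact ⟨l, h1, fun x hx => h2 x (hs hx)⟩

theorem Cov.empty {S : Set RuVec} (n : ℕ) (h : ∀ x, x ∉ S) : Cov S n := ⟨[], Nat.zero_le _, fun x hx => absurd hx (h x)⟩

/-- vectors of norm at most 16 not divisible by 4 -/
def MV : Set RuVec := {x | x ∈ ruLattice ∧ ruNorm x ≤ 16 ∧ ¬∀ i < 56, (4 : ℤ) ∣ cd x i}

/-- value of a word of weight at most 16 -/
noncomputable def leaf (W : Nat) : Nat :=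
  seln(Nat.ble 17 (pc W), 0, seln(Nat.beq (pc W) 16, res 17 (bs COLS W) (D0f W) 0,
    seln(sel(sel(Nat.beq W 0, true, Nat.beq (res 17 (bs COLS W) (D0f W) 0) 0),
      zne (fun z => Nat.beq (res 17 (bs COLS W) z 0) 0) (Nat.div (Nat.sub 16 (pc W)) 4) (cs COLS W) (D0f W), false),
      0, 1099511627776)))

theorem wt (f : ℕ → ℤ) : ((∑ i ∈ range 56, (bF f i).toNat : ℕ) : ℤ) +
    4 * ((∑ i ∈ range 56, (dF f i && !bF f i).toNat : ℕ) : ℤ) ≤ dt f f := by
  unfold dt
  push_cast
  rw [mul_sum, ← sum_add_distrib]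
  refine sum_le_sum fun i _ => ?_
  unfold bF dF
  have h := Int.emod_nonneg (f i) (show (4 : ℤ) ≠ 0 by norm_num)
  by_cases h1 : f i % 2 = 1
  · have h3 : f i ≠ 0 := by intro h0; rw [h0] at h1; norm_num at h1
    have h4 : 0 < f i * f i := mul_self_pos.2 h3
    simp [h1]
    omega
  · by_cases h2 : 2 ≤ f i % 4
    · simp only [h1, h2, decide_true, decide_false, Bool.not_false, Bool.and_self, Bool.toNat_true, Bool.toNat_false]
      push_cast
      rcases lt_or_ge (f i) 0 with h5 | h5
      · nlinarith [show f i ≤ -2 by omega]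
      · nlinarith [show 2 ≤ f i by omega]
    · simp only [h1, h2, decide_false, Bool.false_and, Bool.toNat_false]
      push_cast
      nlinarith [mul_self_nonneg (f i)]

theorem pc_par (f : ℕ → ℤ) : pc (par f) = ∑ i ∈ range 56, (bF f i).toNat := by
  rw [pc_eq]
  refine sum_congr rfl fun i hi => ?_
  unfold par
  rw [tb_oB]
  simp [mem_range.1 hi]

theorem cs_par {f : ℕ → ℤ} {m : ℕ} (h : ∑ i ∈ range 56, (dF f i && !bF f i).toNat ≤ m) :
    SS (cs COLS (par f)) m (XL COLS (fun i => dF f i && !(par f).testBit i)) := by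
  apply SS_cs
  rw [colC.1]
  refine le_trans (le_of_eq (sum_congr rfl fun i hi => ?_)) h
  unfold par
  rw [tb_oB]
  simp [mem_range.1 hi]

/-- vector of a word and its negative positions -/
def vWD (W D : ℕ) : RuVec := mkV fun i => if W.testBit i then (if D.testBit i then -1 else 1) else 0

theorem eq_vWD {x : RuVec} (h : dt (cd x) (cd x) ≤ 16) (h16 : pc (par (cd x)) = 16) :
    x = vWD (par (cd x)) (oB (dF (cd x))) := by
  have h1 := wt (cd x)
  rw [← pc_par, h16] at h1
  have h2 : ∀ i ∈ range 56, 0 ≤ cd x i * cd x i - ((bF (cd x) i).toNat : ℤ) := by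
    intro i _
    unfold bF
    by_cases h1 : cd x i % 2 = 1
    · have h3 : cd x i ≠ 0 := by intro h0; rw [h0] at h1; norm_num at h1
      have h4 : 0 < cd x i * cd x i := mul_self_pos.2 h3
      simp [h1]
      omega
    · simp only [h1, decide_false, Bool.toNat_false]
      push_cast
      nlinarith [mul_self_nonneg (cd x i)]
  have h3 : ∑ i ∈ range 56, (cd x i * cd x i - ((bF (cd x) i).toNat : ℤ)) = 0 := by
    apply le_antisymm _ (sum_nonneg h2)
    rw [sum_sub_distrib]
    have h4 := pc_par (cd x)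
    rw [h16] at h4
    have h5 : (∑ i ∈ range 56, ((bF (cd x) i).toNat : ℤ)) = 16 := by exact_mod_cast h4.symm
    rw [h5]
    have : dt (cd x) (cd x) = ∑ i ∈ range 56, cd x i * cd x i := rfl
    omega
  have h4 := (sum_eq_zero_iff_of_nonneg h2).1 h3
  refine cd_ext fun i hi => ?_
  have h5 := h4 i (mem_range.2 hi)
  unfold vWD
  rw [cd_mkV _ hi]
  unfold par
  simp only [tb_oB, hi, decide_true, Bool.true_and]
  unfold bF dF at *
  by_cases h6 : cd x i % 2 = 1
  · simp only [h6, decide_true, Bool.toNat_true, if_true] at h5 ⊢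
    push_cast at h5
    have h7 : cd x i = 1 ∨ cd x i = -1 := by
      have : (cd x i - 1) * (cd x i + 1) = 0 := by linarith
      rcases mul_eq_zero.1 this with h | h
      · left; omega
      · right; omega
    rcases h7 with h7 | h7 <;> rw [h7] <;> simp
  · simp only [h6, decide_false, Bool.toNat_false] at h5 ⊢
    push_cast at h5
    have : cd x i * cd x i = 0 := by linarith
    simpa using this

theorem leaf_sound (W : ℕ) (hW : leaf W < 1099511627776) : Cov {x | x ∈ MV ∧ par (cd x) = W} (leaf W) := by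
  have hn : ∀ x, x ∈ MV ∧ par (cd x) = W → pc W + 4 * (∑ i ∈ range 56, (dF (cd x) i && !bF (cd x) i).toNat) ≤ 16 := by
    rintro x ⟨⟨h1, h2, h3⟩, h4⟩
    have h5 := wt (cd x)
    rw [← pc_par, h4] at h5
    rw [ruNorm_eq] at h2
    have h6 : dt (cd x) (cd x) = rip x x := rfl
    omega
  unfold leaf at hW ⊢
  cases h17 : Nat.ble 17 (pc W)
  · rw [h17] at hW
    cases h16 : Nat.beq (pc W) 16
    · rw [h16] at hW
      refine Cov.empty _ ?_
      rintro x hx
      have hx' := hn x hx
      obtain ⟨⟨h1, h2, h3⟩, h4⟩ := hx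
      set f := cd x with hf
      set c1 := sel(Nat.beq W 0, true, Nat.beq (res 17 (bs COLS W) (D0f W) 0) 0) with hc1
      set c2 := zne (fun z => Nat.beq (res 17 (bs COLS W) z 0) 0) (Nat.div (Nat.sub 16 (pc W)) 4) (cs COLS W) (D0f W) with hc2
      have hb : sel(c1, c2, false) = true := by
        by_contra hc
        rw [Bool.not_eq_true] at hc
        have : seln(sel(c1, c2, false), 0, 1099511627776) = 1099511627776 := by rw [hc]
        change seln(sel(c1, c2, false), 0, 1099511627776) < _ at hW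
        omega
      obtain ⟨hb1, hb2⟩ := sel_ff hb
      have hxT := mem_L.1 h1
      have hkey := key hxT
      rw [← hf] at hkey
      rw [h4] at hkey
      have hss := cs_par (f := f) (m := Nat.div (Nat.sub 16 (pc W)) 4) (by
        show _ ≤ (16 - pc W) / 4
        omega)
      rw [h4] at hss
      set z := XL COLS (fun i => dF f i && !W.testBit i) with hz
      have hspan := IS_bs COLS W (dF f)
      have hsplit := XL_split COLS (dF f) (fun i => W.testBit i)
      rw [← hz] at hsplit
      rw [← hkey] at hsplit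
      have hsp2 : XL COLS (fun i => dF f i && W.testBit i) = oB (dF f) ^^^ (D0f W ^^^ z) := by
        rw [← Nat.xor_assoc, hsplit, xor_x]
      rw [hsp2] at hspan
      have hbad : ∀ D0, Nat.beq (res 17 (bs COLS W) D0 0) 0 = true → IS (bs COLS W) (oB (dF f) ^^^ D0) → False := by
        intro D0 h5 h6
        have h7 := Nat.eq_of_beq_eq_true h5
        obtain ⟨l, h8, h9⟩ := res_sound 17 (bs COLS W) D0 0 (by omega) [] (by simp) rfl
        have h10 := h9 _ (oB_lt _) h6
        rw [h7] at h8
        have : l = [] := List.length_eq_zero_iff.1 (by omega)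
        rw [this] at h10
        simp at h10
      rcases zne_sound _ _ _ hb2 z hss with h5 | h5
      · rw [h5, Nat.xor_zero] at hspan
        by_cases hW0 : W = 0
        · apply h3
          have h6 : D0f W = 0 := by
            rw [hW0]
            decide +kernel
          have h7 : bs COLS W = [] := by
            rw [hW0]
            decide +kernel
          rw [h6, h7, Nat.xor_zero] at hspan
          have h8 : oB (dF f) = 0 := hspan
          intro i hi
          have h9 := tb_oB (dF f) i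
          rw [h8, Nat.zero_testBit] at h9
          have h10 := tb_oB (bF f) i
          have h11 : oB (bF f) = 0 := by rw [← hW0, ← h4]; rfl
          rw [h11, Nat.zero_testBit] at h10
          simp only [hi, decide_true, Bool.true_and] at h9 h10
          unfold dF at h9
          unfold bF at h10
          rw [eq_comm, decide_eq_false_iff_not] at h9 h10
          omega
        · refine hbad _ ?_ hspan
          rw [hc1] at hb1
          cases hW1 : Nat.beq W 0
          · rw [hW1] at hb1
            exact hb1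
          · exact absurd (Nat.eq_of_beq_eq_true hW1) hW0
      · exact hbad _ h5 hspan
    · rw [h16] at hW
      have h16' := Nat.eq_of_beq_eq_true h16
      obtain ⟨l, h8, h9⟩ := res_sound 17 (bs COLS W) (D0f W) 0 hW [] (by simp) rfl
      refine ⟨l.map (vWD W), by rw [List.length_map]; exact h8, ?_⟩
      rintro x hx
      have hx' := hn x hx
      obtain ⟨⟨h1, h2, h3⟩, h4⟩ := hx
      have h0 : ∑ i ∈ range 56, (dF (cd x) i && !bF (cd x) i).toNat ≤ 0 := by omega
      have hss := SS_zero (cs_par h0)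
      rw [h4] at hss
      have hkey := key (mem_L.1 h1)
      rw [h4] at hkey
      have hspan := IS_bs COLS W (dF (cd x))
      have hsplit := XL_split COLS (dF (cd x)) (fun i => W.testBit i)
      rw [hss, Nat.xor_zero] at hsplit
      rw [← hsplit, ← hkey] at hspan
      refine List.mem_map.2 ⟨_, h9 _ (oB_lt _) hspan, ?_⟩
      have h5 := eq_vWD (x := x) (by rw [ruNorm_eq] at h2; exact h2) (by rw [h4]; exact h16')
      rw [h4] at h5
      exact h5.symm
  · refine Cov.empty _ ?_
    intro x hx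
    have := hn x hx
    have h5 := Nat.le_of_ble_eq_true h17
    omega

/-- the enumeration -/
noncomputable def walk (us : List Nat) : Nat → Nat :=
  @List.rec Nat (fun _ => Nat → Nat) leaf (fun u _ ih W => Nat.add (ih W) (ih (Nat.xor W u))) us

theorem walk_nil (W : ℕ) : walk [] W = leaf W := rfl

theorem walk_cons (u : ℕ) (us : List ℕ) (W : ℕ) : walk (u :: us) W = walk us W + walk us (W ^^^ u) := rfl

theorem walk_sound (us : List ℕ) (W : ℕ) (h : walk us W < 1099511627776) :
    Cov {x | x ∈ MV ∧ IS us (par (cd x) ^^^ W)} (walk us W) := by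
  induction us generalizing W with
  | nil =>
    refine (leaf_sound W h).mono ?_
    rintro x ⟨h1, h2⟩
    refine ⟨h1, ?_⟩
    have h3 : par (cd x) ^^^ W = 0 := h2
    have := congrArg (· ^^^ W) h3
    simpa [xor_x] using this
  | cons u us ih =>
    rw [walk_cons] at h ⊢
    refine ((ih W (by omega)).union (ih (W ^^^ u) (by omega))).mono ?_
    rintro x ⟨h1, h2 | h2⟩
    · exact Or.inl ⟨h1, h2⟩
    · refine Or.inr ⟨h1, ?_⟩
      rwa [Nat.xor_assoc] at h2

end Cfsg.Agent.H90.RuL
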