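import Cfsg.Agent.H90.RuL.Wk

/-!
The minimal vectors of the Conway–Wales lattice (owner: helper90).
-/

set_option autoImplicit false
set_option linter.unusedSimpArgs false
set_option maxHeartbeats 400000

namespace Cfsg.Agent.H90.RuL

open Cfsg.Spor Finset

theorem leaf_le (us : List ℕ) (W0 W : ℕ) (h : IS us (W ^^^ W0)) : leaf W ≤ walk us W0 := by
  induction us generalizing W0 with
  | nil =>
    have h3 : W ^^^ W0 = 0 := h
    have h4 : W = W0 := by
      have := congrArg (· ^^^ W0) h3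
      simpa [xor_x] using this
    rw [h4]
    exact le_rfl
  | cons u us ih =>
    rw [walk_cons]
    rcases h with h | h
    · have := ih W0 h
      omega
    · rw [Nat.xor_assoc] at h
      have := ih (W0 ^^^ u) h
      omega

theorem leaf_alt {W : ℕ} (h : pc W ≠ 16) : leaf W = 0 ∨ leaf W = 1099511627776 := by
  unfold leaf
  cases Nat.ble 17 (pc W)
  · cases h16 : Nat.beq (pc W) 16
    · dsimp only
      generalize (@Bool.rec (fun _ => Bool) false _ _) = c
      cases c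
      · exact Or.inr rfl
      · exact Or.inl rfl
    · exact absurd (Nat.eq_of_beq_eq_true h16) h
  · exact Or.inl rfl

attribute [local irreducible] walk leaf

theorem covMV : Cov MV 16128 := by
  have h := walk_sound UB 0 (by rw [walk_UB]; norm_num)
  rw [walk_UB] at h
  refine h.mono fun x hx => ⟨hx, ?_⟩
  rw [Nat.xor_zero]
  exact par_mem (mem_L.1 hx.1)

theorem dt_eq (x : RuVec) : dt (cd x) (cd x) = ruNorm x := by
  rw [ruNorm_eq]
  rfl

theorem pc_MV {x : RuVec} (hx : x ∈ MV) : pc (par (cd x)) = 16 := by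
  by_contra hc
  have h1 := leaf_le UB 0 (par (cd x)) (by rw [Nat.xor_zero]; exact par_mem (mem_L.1 hx.1))
  rw [walk_UB] at h1
  have h2 : leaf (par (cd x)) = 0 := by
    rcases leaf_alt hc with h | h
    · exact h
    · omega
  obtain ⟨l, h3, h4⟩ := leaf_sound (par (cd x)) (by rw [h2]; norm_num)
  rw [h2] at h3
  have h5 := h4 x ⟨hx, rfl⟩
  rw [List.length_eq_zero_iff.1 (Nat.le_zero.1 h3)] at h5
  simp at h5

theorem norm_MV {x : RuVec} (hx : x ∈ MV) : ruNorm x = 16 := by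
  have h1 := wt (cd x)
  rw [← pc_par, pc_MV hx, dt_eq] at h1
  have h2 := hx.2.1
  omega

theorem norm_D4 {x : RuVec} (h : ∀ i < 56, (4 : ℤ) ∣ cd x i) : (16 : ℤ) ∣ ruNorm x := by
  rw [← dt_eq]
  refine dvd_sum fun i hi => ?_
  obtain ⟨c, hc⟩ := h i (mem_range.1 hi)
  rw [hc]
  exact ⟨c * c, by ring⟩

theorem norm_nonneg (x : RuVec) : 0 ≤ ruNorm x := by
  rw [← dt_eq]
  exact sum_nonneg fun i _ => mul_self_nonneg _

theorem norm_zero {x : RuVec} (h : ruNorm x = 0) : x = 0 := by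
  rw [← dt_eq] at h
  have h2 := (sum_eq_zero_iff_of_nonneg (fun i _ => mul_self_nonneg (cd x i))).1 h
  exact cd_ext fun i hi => by
    rw [cd_zero]
    exact mul_self_eq_zero.1 (h2 i (mem_range.2 hi))

theorem norm_ne8 {x : RuVec} (hx : x ∈ ruLattice) : ruNorm x ≠ 8 := by
  intro h
  by_cases h4 : ∀ i < 56, (4 : ℤ) ∣ cd x i
  · have := norm_D4 h4
    omega
  · have := norm_MV (x := x) ⟨hx, by omega, h4⟩
    omega

theorem norm_ge {x : RuVec} (hx : x ∈ ruLattice) (h0 : x ≠ 0) : 16 ≤ ruNorm x := by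
  have h1 := norm_dvd hx
  have h2 := norm_ne8 hx
  have h3 := norm_nonneg x
  have h4 : ruNorm x ≠ 0 := fun h => h0 (norm_zero h)
  omega

/-- the vectors with one coordinate 4 -/
def fr (i : ℕ) (s : ℤ) : RuVec := mkV fun j => if j = i then s else 0

theorem norm_tab0 : ruNorm (ruTable.getD 0 0) = 16 := by
  rw [← dt_eq]
  unfold dt
  rw [Finset.sum_eq_single 0]
  · rw [tab0 0 (by norm_num)]
    norm_num
  · intro i hi h
    rw [tab0 i (mem_range.1 hi), if_neg h]
    norm_num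
  · intro h
    exact absurd (mem_range.2 (by norm_num)) h

theorem fr_of {x : RuVec} (h : ∀ i < 56, (4 : ℤ) ∣ cd x i) (hn : ruNorm x = 16) : ∃ i < 56, x = fr i 4 ∨ x = fr i (-4) := by
  have h1 : ∃ i < 56, cd x i ≠ 0 := by
    by_contra hc
    push Not at hc
    have : x = 0 := cd_ext fun i hi => by rw [hc i hi, cd_zero]
    rw [this, ← dt_eq] at hn
    have h0 : dt (cd 0) (cd 0) = 0 := sum_eq_zero fun i _ => by rw [cd_zero, mul_zero]
    omega
  obtain ⟨i, hi, h2⟩ := h1
  refine ⟨i, hi, ?_⟩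
  rw [← dt_eq] at hn
  unfold dt at hn
  rw [← add_sum_erase _ _ (mem_range.2 hi)] at hn
  have h3 : ∀ j ∈ (range 56).erase i, 0 ≤ cd x j * cd x j := fun j _ => mul_self_nonneg _
  have h4 := sum_nonneg h3
  obtain ⟨c, hc⟩ := h i hi
  have hc0 : c ≠ 0 := by
    intro h0
    rw [h0] at hc
    exact h2 (by rw [hc]; norm_num)
  have h5 : 0 < c * c := mul_self_pos.2 hc0
  rw [hc] at hn
  have h6 : c * c = 1 := by nlinarith
  have h7 : ∑ j ∈ (range 56).erase i, cd x j * cd x j = 0 := by nlinarith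
  have h8 := (sum_eq_zero_iff_of_nonneg h3).1 h7
  have h9 : ∀ j < 56, j ≠ i → cd x j = 0 := fun j hj hne =>
    mul_self_eq_zero.1 (h8 j (mem_erase.2 ⟨hne, mem_range.2 hj⟩))
  have h10 : c = 1 ∨ c = -1 := by
    have : (c - 1) * (c + 1) = 0 := by linarith
    rcases mul_eq_zero.1 this with h | h
    · left; omega
    · right; omega
  rcases h10 with h10 | h10
  · left
    refine cd_ext fun j hj => ?_
    unfold fr
    rw [cd_mkV _ hj]
    split_ifs with hji
    · rw [hji, hc, h10]; norm_num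
    · exact h9 j hj hji
  · right
    refine cd_ext fun j hj => ?_
    unfold fr
    rw [cd_mkV _ hj]
    split_ifs with hji
    · rw [hji, hc, h10]; norm_num
    · exact h9 j hj hji

/-- the set of minimal vectors -/
def MinS : Set RuVec := {x | x ∈ ruLattice ∧ ruNorm x = 16}

theorem cov16 : Cov MinS 16240 := by
  have h1 : Cov {x | ∃ i < 56, x = fr i 4 ∨ x = fr i (-4)} 112 := by
    refine ⟨(List.range 56).map (fun i => fr i 4) ++ (List.range 56).map (fun i => fr i (-4)), by simp, ?_⟩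
    rintro x ⟨i, hi, h | h⟩
    · exact List.mem_append_left _ (List.mem_map.2 ⟨i, List.mem_range.2 hi, h.symm⟩)
    · exact List.mem_append_right _ (List.mem_map.2 ⟨i, List.mem_range.2 hi, h.symm⟩)
  refine (covMV.union h1).mono ?_
  rintro x ⟨hx, hn⟩
  by_cases h4 : ∀ i < 56, (4 : ℤ) ∣ cd x i
  · exact Or.inr (fr_of h4 hn)
  · exact Or.inl ⟨hx, by omega, h4⟩

theorem s1628 : (∀ x ∈ ruLattice, (8 : ℤ) ∣ ruNorm x) ∧ (∀ x ∈ ruLattice, ruNorm x ≠ 8) ∧
    (∀ x ∈ ruLattice, x ≠ 0 → 16 ≤ ruNorm x) ∧ ∃ x ∈ ruLattice, ruNorm x = 16 :=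
  ⟨fun _ hx => norm_dvd hx, fun _ hx => norm_ne8 hx, fun _ hx h => norm_ge hx h,
    ⟨_, tab_L (t := 0) (by norm_num), norm_tab0⟩⟩

end Cfsg.Agent.H90.RuL
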