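import Cfsg.Agent.H90.RuL.Base

/-!
Packed vectors of 56 digits of 12 bits (owner: helper90).
-/

set_option autoImplicit false

namespace Cfsg.Agent.H90.RuL

open Cfsg.Spor Finset

local notation "sel(" c ", " a ", " b ")" => @Bool.rec (fun _ => Bool) b a c

/-- digit -/
def dg (n i : Nat) : Nat := Nat.land (Nat.shiftRight n (Nat.mul 12 i)) 4095

/-- `f lo`, …, `f (lo + c - 1)` all hold -/
noncomputable def allN (f : Nat → Bool) (lo c : Nat) : Bool :=
  @Nat.rec (fun _ => Bool) true (fun n ih => sel(f (Nat.add lo n), ih, false)) c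

theorem sel_ff {c a : Bool} (h : sel(c, a, false) = true) : c = true ∧ a = true := by
  cases c
  · exact absurd h (by simp)
  · exact ⟨rfl, h⟩

theorem sel_ft {c a : Bool} (h : sel(c, false, a) = true) : c = false ∧ a = true := by
  cases c
  · exact ⟨rfl, h⟩
  · exact absurd h (by simp)

theorem allN_sound {f : ℕ → Bool} {lo c : ℕ} (h : allN f lo c = true) : ∀ i, lo ≤ i → i < lo + c → f i = true := by
  induction c with
  | zero => intro i h1 h2; omega
  | succ n ih =>
    obtain ⟨h1, h2⟩ := sel_ff (show sel(f (Nat.add lo n), allN f lo n, false) = true from h)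
    intro i h3 h4
    by_cases h5 : i = lo + n
    · subst h5
      exact h1
    · exact ih h2 i h3 (by omega)

theorem dg_eq (n i : ℕ) : dg n i = n / 2 ^ (12 * i) % 4096 := by
  unfold dg
  rw [show Nat.land (Nat.shiftRight n (Nat.mul 12 i)) 4095 = (n >>> (12 * i)) &&& (2 ^ 12 - 1) from rfl,
    Nat.and_two_pow_sub_one_eq_mod, Nat.shiftRight_eq_div_pow]

theorem dg_lt (n i : ℕ) : dg n i < 4096 := by
  rw [dg_eq]
  exact Nat.mod_lt _ (by norm_num)

/-- packing -/
def pk (s : ℕ → ℕ) (m : ℕ) : ℕ := ∑ i ∈ range m, s i * 2 ^ (12 * i)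

theorem pk_lt {s : ℕ → ℕ} {m : ℕ} (h : ∀ i < m, s i < 4096) : pk s m < 2 ^ (12 * m) := by
  induction m with
  | zero => simp [pk]
  | succ m ih =>
    have h1 := ih fun i hi => h i (by omega)
    have h2 := h m (by omega)
    unfold pk at h1 ⊢
    rw [sum_range_succ, show 12 * (m + 1) = 12 * m + 12 by ring, pow_add]
    have h3 : s m * 2 ^ (12 * m) ≤ 4095 * 2 ^ (12 * m) := Nat.mul_le_mul_right _ (by omega)
    omega

theorem dg_pk {s : ℕ → ℕ} {m : ℕ} (h : ∀ i < m, s i < 4096) {j : ℕ} (hj : j < m) : dg (pk s m) j = s j := by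
  induction m with
  | zero => omega
  | succ m ih =>
    have h1 : pk s (m + 1) = pk s m + s m * 2 ^ (12 * m) := by
      unfold pk
      rw [sum_range_succ]
    rw [h1, dg_eq]
    by_cases hjm : j = m
    · subst hjm
      rw [Nat.add_mul_div_right _ _ (by positivity), Nat.div_eq_of_lt (pk_lt fun i hi => h i (by omega)), zero_add]
      exact Nat.mod_eq_of_lt (h j (by omega))
    · have h2 := ih (fun i hi => h i (by omega)) (by omega)
      rw [dg_eq] at h2
      have h3 : s m * 2 ^ (12 * m) = (4096 * (s m * 2 ^ (12 * (m - j - 1)))) * 2 ^ (12 * j) := by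
        have : 2 ^ (12 * m) = 4096 * 2 ^ (12 * (m - j - 1)) * 2 ^ (12 * j) := by
          rw [show (4096 : ℕ) = 2 ^ 12 by norm_num, ← pow_add, ← pow_add]
          congr 1
          omega
        rw [this]
        ring
      rw [h3, Nat.add_mul_div_right _ _ (by positivity), Nat.add_mul_mod_self_left]
      exact h2

theorem pk_dg (n m : ℕ) : pk (dg n) m = n % 2 ^ (12 * m) := by
  induction m with
  | zero => simp [pk, Nat.mod_one]
  | succ m ih =>
    have h1 : pk (dg n) (m + 1) = pk (dg n) m + dg n m * 2 ^ (12 * m) := by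
      unfold pk
      rw [sum_range_succ]
    rw [h1, ih, dg_eq, show 12 * (m + 1) = 12 * m + 12 by ring, pow_add, Nat.mod_mul]
    ring

theorem pk_dg' {n : ℕ} (h : n < 2 ^ 672) : pk (dg n) 56 = n := by
  rw [pk_dg, Nat.mod_eq_of_lt h]

theorem pk_add (s t : ℕ → ℕ) (m : ℕ) : pk (fun i => s i + t i) m = pk s m + pk t m := by
  unfold pk
  rw [← sum_add_distrib]
  exact sum_congr rfl fun i _ => by ring

theorem pk_mul (c : ℕ) (s : ℕ → ℕ) (m : ℕ) : pk (fun i => c * s i) m = c * pk s m := by
  unfold pk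
  rw [mul_sum]
  exact sum_congr rfl fun i _ => by ring

theorem pk_inj {s t : ℕ → ℕ} {m : ℕ} (hs : ∀ i < m, s i < 4096) (ht : ∀ i < m, t i < 4096) (h : pk s m = pk t m) :
    ∀ i < m, s i = t i := fun i hi => by
  rw [← dg_pk hs hi, h, dg_pk ht hi]

/-- combination of packed rows, the coefficients being the digits of `q` of 2 bits -/
noncomputable def comb (rows : List Nat) (q : Nat) : Nat :=
  @List.rec Nat (fun _ => Nat → Nat) (fun _ => 0)
    (fun N _ ih q => Nat.add (Nat.mul (Nat.land q 3) N) (ih (Nat.shiftRight q 2))) rows q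

/-- digitwise -/
def cdg : List ℕ → ℕ → ℕ → ℕ
  | [], _, _ => 0
  | N :: rows, q, j => Nat.land q 3 * dg N j + cdg rows (Nat.shiftRight q 2) j

theorem land3_lt (q : ℕ) : Nat.land q 3 < 4 := by
  have : Nat.land q 3 = q % 4 := Nat.and_two_pow_sub_one_eq_mod q 2
  omega

theorem comb_eq {rows : List ℕ} (h : ∀ N ∈ rows, N < 2 ^ 672) (q : ℕ) : comb rows q = pk (cdg rows q) 56 := by
  induction rows generalizing q with
  | nil => simp [comb, pk, cdg]
  | cons N rows ih =>
    have h1 : comb (N :: rows) q = Nat.land q 3 * N + comb rows (Nat.shiftRight q 2) := rfl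
    have h2 : cdg (N :: rows) q = fun j => Nat.land q 3 * dg N j + cdg rows (Nat.shiftRight q 2) j := rfl
    rw [h1, h2, pk_add, pk_mul, pk_dg' (h N (by simp)), ih (fun N hN => h N (by simp [hN]))]

theorem cdg_le {rows : List ℕ} (h : ∀ N ∈ rows, ∀ j < 56, dg N j ≤ 3) (q : ℕ) {j : ℕ} (hj : j < 56) :
    cdg rows q j ≤ 9 * rows.length := by
  induction rows generalizing q with
  | nil => simp [cdg]
  | cons N rows ih =>
    have h1 := ih (fun N hN => h N (by simp [hN])) (Nat.shiftRight q 2)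
    have h2 := h N (by simp) j hj
    have h3 := land3_lt q
    have h4 : Nat.land q 3 * dg N j ≤ 3 * 3 := Nat.mul_le_mul (by omega) h2
    rw [cdg, List.length_cons]
    omega

/-- the bound -/
@[irreducible] def bnd : ℕ := 2 ^ 672

theorem bnd_eq : bnd = 2 ^ 672 := by
  unfold bnd
  rfl

theorem ble_false {a b : ℕ} (h : Nat.ble a b = false) : b < a := by
  by_contra hc
  rw [Nat.ble_eq_true_of_le (Nat.le_of_not_lt hc)] at h
  exact absurd h (by decide)

/-- the rows are packed with digits at most 3 -/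
noncomputable def okR (rows : List Nat) : Bool :=
  @List.rec Nat (fun _ => Bool) true (fun N _ ih =>
    sel(Nat.ble bnd N, false, sel(allN (fun j => Nat.ble (dg N j) 3) 0 56, ih, false))) rows

theorem okR_sound {rows : List ℕ} (h : okR rows = true) : (∀ N ∈ rows, N < 2 ^ 672) ∧ ∀ N ∈ rows, ∀ j < 56, dg N j ≤ 3 := by
  induction rows with
  | nil => simp
  | cons N rows ih =>
    obtain ⟨h1, h2⟩ := sel_ft (show sel(Nat.ble bnd N, false,
      sel(allN (fun j => Nat.ble (dg N j) 3) 0 56, okR rows, false)) = true from h)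
    obtain ⟨h3, h4⟩ := sel_ff h2
    obtain ⟨h5, h6⟩ := ih h4
    have h7 : N < 2 ^ 672 := by
      rw [← bnd_eq]
      exact ble_false h1
    refine ⟨?_, ?_⟩
    · intro M hM
      rcases List.mem_cons.1 hM with rfl | hM
      · exact h7
      · exact h5 M hM
    · intro M hM j hj
      rcases List.mem_cons.1 hM with rfl | hM
      · exact Nat.le_of_ble_eq_true (allN_sound h3 j (Nat.zero_le _) (by omega))
      · exact h6 M hM j hj

theorem dg_comb {rows : List ℕ} (h : okR rows = true) (hl : rows.length ≤ 400) (q : ℕ) {j : ℕ} (hj : j < 56) :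
    dg (comb rows q) j = cdg rows q j := by
  obtain ⟨h1, h2⟩ := okR_sound h
  rw [comb_eq h1]
  apply dg_pk _ hj
  intro i hi
  have := cdg_le h2 q hi
  omega

/-- the row as a function -/
def rowf (N : ℕ) (i : ℕ) : ℤ := (dg N i : ℤ)

/-- functions divisible by 4 on the 56 positions -/
def D4 : AddSubgroup (ℕ → ℤ) where
  carrier := {r | ∀ i < 56, 4 ∣ r i}
  zero_mem' := fun i _ => dvd_zero _
  add_mem' := fun ha hb i hi => dvd_add (ha i hi) (hb i hi)
  neg_mem' := fun ha i hi => (ha i hi).neg_right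

/-- the span of the rows modulo 4 -/
def T (rows : List ℕ) : AddSubgroup (ℕ → ℤ) := AddSubgroup.closure (rowf '' {N | N ∈ rows}) ⊔ D4

theorem row_mem {rows : List ℕ} {N : ℕ} (h : N ∈ rows) : rowf N ∈ T rows :=
  (le_sup_left : _ ≤ T rows) (AddSubgroup.subset_closure ⟨N, h, rfl⟩)

theorem D4_le (rows : List ℕ) : D4 ≤ T rows := le_sup_right

theorem T_le {rows : List ℕ} {A : AddSubgroup (ℕ → ℤ)} (h : ∀ N ∈ rows, rowf N ∈ A) (h4 : D4 ≤ A) : T rows ≤ A := by
  refine sup_le ?_ h4
  rw [AddSubgroup.closure_le]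
  rintro _ ⟨N, hN, rfl⟩
  exact h N hN

theorem T_mono {rows rows' : List ℕ} (h : ∀ N ∈ rows, N ∈ rows') : T rows ≤ T rows' :=
  T_le (fun N hN => row_mem (h N hN)) (D4_le _)

theorem cdg_mem (rows : List ℕ) (q : ℕ) : (fun j => (cdg rows q j : ℤ)) ∈ T rows := by
  induction rows generalizing q with
  | nil =>
    have : (fun j => (cdg [] q j : ℤ)) = 0 := by funext j; simp [cdg]
    rw [this]
    exact zero_mem _
  | cons N rows ih =>
    have h1 : (fun j => (cdg (N :: rows) q j : ℤ)) =
        (Nat.land q 3) • rowf N + fun j => (cdg rows (Nat.shiftRight q 2) j : ℤ) := by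
      funext j
      simp [cdg, rowf]
    rw [h1]
    exact add_mem (nsmul_mem (row_mem (by simp)) _) (T_mono (fun M hM => by simp [hM]) (ih _))

/-- the residues `r` are represented by the rows -/
noncomputable def memC (rows : List Nat) (q : Nat) (r : Nat → Nat) : Bool :=
  (fun S => allN (fun i => Nat.beq (Nat.land (Nat.add (dg S i) (Nat.mul 3 (r i))) 3) 0) 0 56) (comb rows q)

theorem memC_sound {rows : List ℕ} (h : okR rows = true) (hl : rows.length ≤ 400) {q : ℕ} {r : ℕ → ℕ}
    (hc : memC rows q r = true) {s : ℕ → ℤ} (hs : ∀ i < 56, 4 ∣ s i - r i) : s ∈ T rows := by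
  have h1 : s = (fun j => (cdg rows q j : ℤ)) + (s - fun j => (cdg rows q j : ℤ)) := by
    funext j
    simp
  rw [h1]
  refine add_mem (cdg_mem rows q) (D4_le _ fun i hi => ?_)
  have hc' : allN (fun i => Nat.beq (Nat.land (Nat.add (dg (comb rows q) i) (Nat.mul 3 (r i))) 3) 0) 0 56 = true := hc
  have h2 := Nat.eq_of_beq_eq_true (allN_sound hc' i (Nat.zero_le _) (by omega))
  rw [show Nat.land (Nat.add (dg (comb rows q) i) (Nat.mul 3 (r i))) 3 =
    (dg (comb rows q) i + 3 * r i) % 4 from Nat.and_two_pow_sub_one_eq_mod _ 2, dg_comb h hl q hi] at h2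
  have h3 := hs i hi
  show (4 : ℤ) ∣ s i - (cdg rows q i : ℤ)
  omega

end Cfsg.Agent.H90.RuL
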