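import Cfsg.Agent.H90.RuL.Vec

/-!
Patterns of inner products with the base vectors; checks of matrices (owner: helper90).
-/

set_option autoImplicit false
set_option linter.unusedSimpArgs false
set_option maxHeartbeats 400000

namespace Cfsg.Agent.H90.RuL

open Cfsg.Spor Finset Cfsg.Agent.CosetEnum

local notation "sel(" c ", " a ", " b ")" => @Bool.rec (fun _ => Bool) b a c
local notation "seln(" c ", " a ", " b ")" => @Bool.rec (fun _ => Nat) b a c

/-- the modulus of the patterns -/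
@[irreducible] def NN : ℕ := 2 ^ 320

/-- coordinates of base vectors -/
noncomputable def xf (l i : ℕ) : ℤ := vf (rowV PV (BI.getD l 0)) i

/-- the pattern functional -/
noncomputable def Rf (i : ℕ) : ℤ :=
  ∑ l ∈ range 10, (xf l i * ((2 ^ (32 * l) : ℕ) : ℤ) + opH 0 (xf l) i * ((2 ^ (32 * l + 16) : ℕ) : ℤ))

/-- pattern of a vector -/
noncomputable def EE (x : RuVec) : ℤ := dt (cd x) Rf

theorem EE_I (x : RuVec) : EE (gI • x) = dt (cd x) (it Rf) := dt_I x Rf

theorem EE_neg (x : RuVec) : EE (-x) = -EE x := dt_negl x Rf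

theorem NN_pos : 0 < NN := by
  unfold NN
  exact Nat.pos_of_ne_zero (pow_ne_zero _ (by norm_num))

/-- sum modulo the modulus -/
noncomputable def md (a k : Nat) : Nat := Nat.mod (Nat.add a k) NN

theorem md_eq (a k : ℕ) : md a k = (a + k) % NN := rfl

theorem md_le (a k : ℕ) : md a k ≤ NN := (Nat.mod_lt (a + k) NN_pos).le

/-- negative -/
noncomputable def ng (a : Nat) : Nat := Nat.sub NN a

theorem ng_eq (a : ℕ) : ng a = NN - a := rfl

attribute [local irreducible] md ng KA KB RA RB comb4 dt cd vv rowV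

/-- pattern values of the units -/
noncomputable def ea (w : Nat) : Nat := md (comb4 RA w) KA

/-- pattern value for the imaginary unit -/
noncomputable def eb (w : Nat) : Nat := md (comb4 RB w) KB

theorem mod_dvd {a M : ℕ} {x : ℤ} (h : (M : ℤ) ∣ (a : ℤ) - x) : (M : ℤ) ∣ ((a % M : ℕ) : ℤ) - x := by
  have h1 : ((a % M : ℕ) : ℤ) = (a : ℤ) - M * ((a / M : ℕ) : ℤ) := by
    have := Nat.mod_add_div a M
    have h2 : ((a % M : ℕ) : ℤ) + M * ((a / M : ℕ) : ℤ) = a := by exact_mod_cast this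
    linarith
  rw [h1]
  have : (a : ℤ) - M * ((a / M : ℕ) : ℤ) - x = ((a : ℤ) - x) - M * ((a / M : ℕ) : ℤ) := by ring
  rw [this]
  exact dvd_sub h (Dvd.intro _ rfl)

theorem ea_sound (h : Lin RA KA Rf (NN : ℤ)) (w : ℕ) : (NN : ℤ) ∣ (ea w : ℤ) - EE (vv w) := by
  have h1 := mod_dvd (h.eval w)
  have h2 : dt (vf w) Rf = EE (vv w) := dt_congr _ fun i hi => (cd_vv _ hi).symm
  rw [h2, ← md_eq] at h1
  exact h1

theorem eb_sound (h : Lin RB KB (it Rf) (NN : ℤ)) (w : ℕ) : (NN : ℤ) ∣ (eb w : ℤ) - EE (gI • vv w) := by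
  have h1 := mod_dvd (h.eval w)
  have h2 : dt (vf w) (it Rf) = EE (gI • vv w) := by
    rw [EE_I]
    exact dt_congr _ fun i hi => (cd_vv _ hi).symm
  rw [h2, ← md_eq] at h1
  exact h1

theorem ng_sound {a : ℕ} {x : ℤ} (ha : a ≤ NN) (h : (NN : ℤ) ∣ (a : ℤ) - x) : (NN : ℤ) ∣ (ng a : ℤ) - (-x) := by
  have h1 : ((ng a : ℕ) : ℤ) = (NN : ℤ) - a := by
    rw [ng_eq]
    exact Nat.cast_sub ha
  rw [h1]
  have : (NN : ℤ) - a - -x = NN - ((a : ℤ) - x) := by ring
  rw [this]
  exact dvd_sub (dvd_refl _) h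

theorem ea_le (w : ℕ) : ea w ≤ NN := md_le _ _

theorem eb_le (w : ℕ) : eb w ≤ NN := md_le _ _

attribute [local irreducible] ea eb

/-- choice among four values -/
def pick4 (a b c d : ℕ) : ℕ → ℕ
  | 0 => a
  | 1 => b
  | 2 => c
  | _ => d

theorem pick4_0 (a b c d : ℕ) : pick4 a b c d 0 = a := rfl

theorem pick4_1 (a b c d : ℕ) : pick4 a b c d 1 = b := rfl

theorem pick4_2 (a b c d : ℕ) : pick4 a b c d 2 = c := rfl

theorem pick4_3 (a b c d : ℕ) : pick4 a b c d 3 = d := rfl

/-- value of the unit `u` -/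
noncomputable def ev (u w : ℕ) : ℕ := pick4 (ea w) (eb w) (ng (ea w)) (ng (eb w)) u

theorem ev0 (w : ℕ) : ev 0 w = ea w := pick4_0 _ _ _ _

theorem ev1 (w : ℕ) : ev 1 w = eb w := pick4_1 _ _ _ _

theorem ev2 (w : ℕ) : ev 2 w = ng (ea w) := pick4_2 _ _ _ _

theorem ev3 (w : ℕ) : ev 3 w = ng (eb w) := pick4_3 _ _ _ _

attribute [local irreducible] ev

theorem ev_sound (hA : Lin RA KA Rf (NN : ℤ)) (hB : Lin RB KB (it Rf) (NN : ℤ)) {u : ℕ} (hu : u < 4) (w : ℕ) :
    (NN : ℤ) ∣ (ev u w : ℤ) - EE (un u (vv w)) := by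
  have h : u = 0 ∨ u = 1 ∨ u = 2 ∨ u = 3 := by omega
  rcases h with rfl | rfl | rfl | rfl
  · rw [ev0, un_zero]
    exact ea_sound hA w
  · rw [ev1, un_succ, un_zero]
    exact eb_sound hB w
  · have h1 := ng_sound (ea_le w) (ea_sound hA w)
    rw [← EE_neg] at h1
    rw [ev2, un_two]
    exact h1
  · rw [ev3]
    have h1 := ng_sound (eb_le w) (eb_sound hB w)
    rw [← EE_neg] at h1
    rw [show 3 = 2 + 1 from rfl, un_add, un_two, un_succ, un_zero]
    exact h1

/-- test of a value -/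
noncomputable def tv (m p x : Nat) : Bool := Nat.beq (Nat.mod x m) p

theorem tv_of {m p : ℕ} {a b : ℤ} {x : ℕ} (hm : m ∣ NN) (hp : (m : ℤ) ∣ (p : ℤ) - b) (hpm : p < m) (hx : (NN : ℤ) ∣ (x : ℤ) - a)
    (hab : (m : ℤ) ∣ a - b) : tv m p x = true := by
  unfold tv
  have h1 : (m : ℤ) ∣ (x : ℤ) - p := by
    have : (x : ℤ) - p = ((x : ℤ) - a) + (a - b) - ((p : ℤ) - b) := by ring
    rw [this]
    exact dvd_sub (dvd_add ((Int.natCast_dvd_natCast.2 hm).trans hx) hab) hp
  have h2 : x % m = p % m := by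
    have := (Int.emod_emod_of_dvd (x : ℤ) (dvd_refl (m : ℤ)))
    have h3 : (x : ℤ) % m = (p : ℤ) % m := Int.emod_eq_emod_iff_emod_sub_eq_zero.2 (Int.emod_eq_zero_of_dvd h1)
    exact_mod_cast h3
  rw [Nat.mod_eq_of_lt hpm] at h2
  show Nat.beq (x % m) p = true
  rw [h2]
  exact Nat.beq_refl p

/-- number of a truth value -/
noncomputable def b2n (b : Bool) : Nat := seln(b, 1, 0)

theorem b2n_eq (b : Bool) : b2n b = b.toNat := by cases b <;> rfl

/-- number of units passing the test -/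
noncomputable def t4 (m p j : Nat) : Nat :=
  forceN (rowV PV j) fun w => forceN (ea w) fun a => forceN (eb w) fun b =>
    Nat.add (Nat.add (b2n (tv m p a)) (b2n (tv m p b))) (Nat.add (b2n (tv m p (ng a))) (b2n (tv m p (ng b))))

theorem forceN_eq (x : ℕ) (f : ℕ → ℕ) : forceN x f = f x := by
  cases x <;> rfl

theorem add4 (a b c d : ℕ) : Nat.add (Nat.add a b) (Nat.add c d) = a + b + c + d := by
  show a + b + (c + d) = _
  ring

attribute [local irreducible] tv

/-- the test -/
noncomputable def tk (m p j u : ℕ) : Bool := tv m p (ev u (rowV PV j))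

theorem t4_eq (m p j : ℕ) : t4 m p j = ∑ u ∈ range 4, (tk m p j u).toNat := by
  unfold t4
  rw [forceN_eq, forceN_eq, forceN_eq]
  simp only [b2n_eq, sum_range_succ, sum_range_zero, zero_add]
  unfold tk
  rw [ev0, ev1, ev2, ev3]
  exact add4 _ _ _ _

/-- counting with an accumulator -/
noncomputable def cn (f : Nat → Nat) (lo c : Nat) : Nat → Nat :=
  @Nat.rec (fun _ => Nat → Nat) (fun acc => acc) (fun n ih acc => forceN (Nat.add acc (f (Nat.add lo n))) ih) c

theorem cn_eq (f : ℕ → ℕ) (lo c acc : ℕ) : cn f lo c acc = acc + ∑ n ∈ range c, f (lo + n) := by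
  induction c generalizing acc with
  | zero => simp [cn]
  | succ n ih =>
    have h : cn f lo (n + 1) acc = forceN (Nat.add acc (f (Nat.add lo n))) (cn f lo n) := rfl
    rw [h, forceN_eq, ih, sum_range_succ]
    show acc + f (lo + n) + _ = _
    ring

/-- all members of a list of triples -/
noncomputable def allT (f : Nat → Nat → Nat → Bool) (l : List (Nat × Nat × Nat)) : Bool :=
  @List.rec (Nat × Nat × Nat) (fun _ => Bool) true (fun t _ ih => andk (f t.1 t.2.1 t.2.2) ih) l

theorem allT_sound {f : ℕ → ℕ → ℕ → Bool} {l : List (ℕ × ℕ × ℕ)} (h : allT f l = true) : ∀ t ∈ l, f t.1 t.2.1 t.2.2 = true := by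
  induction l with
  | nil => intro t ht; simp at ht
  | cons t l ih =>
    obtain ⟨h1, h2⟩ := andk_sound (show andk (f t.1 t.2.1 t.2.2) (allT f l) = true from h)
    intro s hs
    rcases List.mem_cons.1 hs with rfl | hs
    · exact h1
    · exact ih h2 s hs

/-- negation -/
noncomputable def nt (b : Bool) : Bool := sel(b, false, true)

theorem nt_sound {b : Bool} (h : nt b = true) : b = false := by
  cases b
  · rfl
  · exact absurd h (by decide)

/-- implication -/
noncomputable def im (a b : Bool) : Bool := sel(a, b, true)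

theorem im_sound {a b : Bool} (h : im a b = true) (ha : a = true) : b = true := by
  rw [ha] at h
  exact h

attribute [local irreducible] im nt andk force

/-- uniqueness test -/
noncomputable def uq (j : Nat) : Bool :=
  force (rowV PV j) fun w => force (ea w) fun a => force (eb w) fun b => force (ng a) fun a' => force (ng b) fun b' =>
    allT (fun i m p => andk (im (tv m p a) (Nat.beq j i)) (andk (nt (tv m p b)) (andk (nt (tv m p a')) (nt (tv m p b'))))) TG

theorem uq_sound {j : ℕ} (h : uq j = true) {t : ℕ × ℕ × ℕ} (ht : t ∈ TG) {u : ℕ} (hu : u < 4)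
    (hk : tk t.2.1 t.2.2 j u = true) : j = t.1 ∧ u = 0 := by
  unfold uq at h
  rw [force_eq, force_eq, force_eq, force_eq, force_eq] at h
  have h1 := allT_sound h t ht
  obtain ⟨h2, h3⟩ := andk_sound h1
  obtain ⟨h4, h5⟩ := andk_sound h3
  obtain ⟨h6, h7⟩ := andk_sound h5
  have hu' : u = 0 ∨ u = 1 ∨ u = 2 ∨ u = 3 := by omega
  unfold tk at hk
  rcases hu' with rfl | rfl | rfl | rfl
  · rw [ev0] at hk
    exact ⟨Nat.eq_of_beq_eq_true (im_sound h2 hk), rfl⟩
  · rw [ev1, nt_sound h4] at hk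
    exact absurd hk (by decide)
  · rw [ev2, nt_sound h6] at hk
    exact absurd hk (by decide)
  · rw [ev3, nt_sound h7] at hk
    exact absurd hk (by decide)

/-! ### matrices -/

/-- dot product of codes -/
noncomputable def dtq (a b c : Nat) : Nat :=
  @Nat.rec (fun _ => Nat) 0 (fun n ih => Nat.add ih (Nat.mul (dq a n) (dq b n))) c

theorem dtq_eq (a b c : ℕ) : dtq a b c = ∑ i ∈ range c, dq a i * dq b i := by
  induction c with
  | zero => rfl
  | succ n ih => rw [sum_range_succ, ← ih]; rfl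

/-- equation of an inner product -/
noncomputable def eqo (x y z r : Nat) : Bool := Nat.beq (Nat.add x 896) (Nat.add (Nat.mul 4 (Nat.add y z)) r)

theorem eqo_sound {x y z r : ℕ} (h : eqo x y z r = true) : x + 896 = 4 * (y + z) + r := Nat.eq_of_beq_eq_true h

attribute [local irreducible] dtq sm sq eqo

/-- test of an inner product -/
noncomputable def orB (a b r : Nat) : Bool := eqo (dtq a b 56) (sm a 56) (sm b 56) r

theorem orB_sound {a b r : ℕ} (h : orB a b r = true) : dt (vf a) (vf b) = r := by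
  unfold orB at h
  have h1 := eqo_sound h
  rw [dtq_eq, sm_eq, sm_eq] at h1
  have h2 : ((∑ i ∈ range 56, dq a i * dq b i : ℕ) : ℤ) + 896 =
      4 * (((∑ i ∈ range 56, dq a i : ℕ) : ℤ) + ((∑ i ∈ range 56, dq b i : ℕ) : ℤ)) + r := by exact_mod_cast h1
  push_cast at h2
  have h3 : dt (vf a) (vf b) = (∑ i ∈ range 56, (dq a i * dq b i : ℤ)) - 4 * (∑ i ∈ range 56, (dq a i : ℤ)) -
      4 * (∑ i ∈ range 56, (dq b i : ℤ)) + 896 := by
    have h4 : (896 : ℤ) = ∑ i ∈ range 56, (16 : ℤ) := by simp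
    rw [h4, mul_sum, mul_sum, ← sum_sub_distrib, ← sum_sub_distrib, ← sum_add_distrib]
    unfold dt
    refine sum_congr rfl fun i _ => ?_
    unfold vf
    ring
  rw [h3]
  linarith

/-- a matrix with all its properties -/
structure MatOK (MC CM : List ℕ) (KF : ℕ) : Prop where
  lin : Lin CM KF (rhoC MC) (MM : ℤ)
  orth : ∀ i < 56, ∀ k < 56, orB (MC.getD i 0) (MC.getD k 0) (if i = k then 16 else 0) = true
  comm : ∀ k < 28, ∀ j < 56, opH 0 (vf (MC.getD (2 * k) 0)) j = vf (MC.getD (2 * k + 1) 0) j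

theorem MatOK.rip {MC CM : List ℕ} {KF : ℕ} (h : MatOK MC CM KF) (x y : RuVec) :
    dt (cd (Phi MC x)) (cd (Phi MC y)) = 16 * dt (cd x) (cd y) := by
  have h1 : ∀ i < 56, ∀ k < 56, dt (vf (MC.getD i 0)) (vf (MC.getD k 0)) = if i = k then 16 else 0 := by
    intro i hi k hk
    rw [orB_sound (h.orth i hi k hk)]
    split_ifs <;> rfl
  have h2 : dt (cd (Phi MC x)) (cd (Phi MC y)) = ∑ i ∈ range 56, ∑ k ∈ range 56, cd x i * cd y k *
      dt (vf (MC.getD i 0)) (vf (MC.getD k 0)) := by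
    unfold dt
    have h3 : ∀ j ∈ range 56, cd (Phi MC x) j * cd (Phi MC y) j = ∑ i ∈ range 56, ∑ k ∈ range 56,
        cd x i * cd y k * (vf (MC.getD i 0) j * vf (MC.getD k 0) j) := by
      intro j hj
      rw [cd_Phi _ _ (mem_range.1 hj), cd_Phi _ _ (mem_range.1 hj), sum_mul_sum]
      refine sum_congr rfl fun i _ => sum_congr rfl fun k _ => ?_
      ring
    rw [sum_congr rfl h3, sum_comm]
    refine sum_congr rfl fun i _ => ?_
    rw [sum_comm]
    refine sum_congr rfl fun k _ => ?_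
    rw [mul_sum]
  rw [h2]
  have h3 : ∀ i ∈ range 56, ∑ k ∈ range 56, cd x i * cd y k * dt (vf (MC.getD i 0)) (vf (MC.getD k 0)) =
      16 * (cd x i * cd y i) := by
    intro i hi
    rw [Finset.sum_eq_single i]
    · rw [h1 i (mem_range.1 hi) i (mem_range.1 hi), if_pos rfl]
      ring
    · intro k hk hne
      rw [h1 i (mem_range.1 hi) k (mem_range.1 hk), if_neg (Ne.symm hne), mul_zero]
    · intro hc
      exact absurd hi hc
  rw [sum_congr rfl h3, ← mul_sum]
  unfold dt
  rfl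

theorem Phi_add (MC : List ℕ) (x y : RuVec) : Phi MC (x + y) = Phi MC x + Phi MC y := by
  unfold Phi
  rw [← sum_add_distrib]
  exact sum_congr rfl fun i _ => by rw [cd_add, add_smul]

theorem Phi_zero (MC : List ℕ) : Phi MC 0 = 0 := by
  unfold Phi
  exact sum_eq_zero fun i _ => by rw [cd_zero, zero_smul]

theorem Phi_neg (MC : List ℕ) (x : RuVec) : Phi MC (-x) = -Phi MC x := by
  unfold Phi
  rw [← sum_neg_distrib]
  exact sum_congr rfl fun i _ => by rw [cd_neg, neg_smul]

theorem MatOK.I {MC CM : List ℕ} {KF : ℕ} (h : MatOK MC CM KF) (x : RuVec) : Phi MC (gI • x) = gI • Phi MC x := by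
  have hc : ∀ k < 28, gI • vv (MC.getD (2 * k) 0) = vv (MC.getD (2 * k + 1) 0) := by
    intro k hk
    refine cd_ext fun j hj => ?_
    have h1 := cd_op 0 (by norm_num) (vv (MC.getD (2 * k) 0)) hj
    have h2 : cd (gI • vv (MC.getD (2 * k) 0)) j = sv (sg 0 j) (cd (vv (MC.getD (2 * k) 0)) (pm 0 j)) := h1
    rw [h2, cd_vv _ (pm_lt (by norm_num) hj), cd_vv _ hj]
    exact h.comm k hk j hj
  have h3 : gI • Phi MC x = ∑ i ∈ range 56, cd x i • gI • vv (MC.getD i 0) := by
    unfold Phi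
    rw [Finset.smul_sum]
    exact sum_congr rfl fun i _ => smul_comm _ _ _
  rw [h3]
  unfold Phi
  rw [show 56 = 2 * 28 from rfl]
  have key : ∀ (f : ℕ → RuVec) (n : ℕ), ∑ i ∈ range (2 * n), f i = ∑ k ∈ range n, (f (2 * k) + f (2 * k + 1)) := by
    intro f n
    induction n with
    | zero => simp
    | succ n ih =>
      rw [show 2 * (n + 1) = 2 * n + 1 + 1 by ring, sum_range_succ, sum_range_succ, ih, sum_range_succ]
      rw [add_assoc]
  rw [key, key]
  refine sum_congr rfl fun k hk => ?_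
  have hk := mem_range.1 hk
  have h1 : cd (gI • x) (2 * k) = -cd x (2 * k + 1) := by
    have h := cd_op 0 (by norm_num) x (i := 2 * k) (by omega)
    have h2 : sg 0 (2 * k) = true := by simp [sg]
    have h3 : pm 0 (2 * k) = 2 * k + 1 := by simp [pm]
    rw [h2, h3] at h
    exact h
  have h2 : cd (gI • x) (2 * k + 1) = cd x (2 * k) := by
    have h := cd_op 0 (by norm_num) x (i := 2 * k + 1) (by omega)
    have h2 : sg 0 (2 * k + 1) = false := by
      have : (2 * k + 1) % 2 = 1 := by omega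
      simp [sg, this]
    have h3 : pm 0 (2 * k + 1) = 2 * k := by
      have : (2 * k + 1) % 2 = 1 := by omega
      simp [pm, this]
    rw [h2, h3] at h
    exact h
  rw [h1, h2, ← hc k hk, gI_sq, neg_smul, smul_neg]
  abel

end Cfsg.Agent.H90.RuL
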