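import Cfsg.Agent.H90.RuL.Pack
import Cfsg.Agent.H90.RuL.Data

/-!
The Conway–Wales lattice is the span of 37 rows modulo 4 (owner: helper90).
-/

set_option autoImplicit false
set_option linter.unusedSimpArgs false

namespace Cfsg.Agent.H90.RuL

open Cfsg.Spor Finset

/-- the rows -/
def ROWS : List ℕ := UR ++ ER

/-- operation on functions -/
def opH (o : ℕ) : (ℕ → ℤ) →+ (ℕ → ℤ) where
  toFun f i := sv (sg o i) (f (pm o i))
  map_zero' := by
    funext i
    unfold sv
    split_ifs <;> simp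
  map_add' f g := by
    funext i
    show sv (sg o i) (f (pm o i) + g (pm o i)) = sv (sg o i) (f (pm o i)) + sv (sg o i) (g (pm o i))
    unfold sv
    split_ifs <;> ring

/-- residue of an operated row -/
def ro (o N i : ℕ) : ℕ := bif sg o i then 4 - dg N (pm o i) else dg N (pm o i)

/-- coefficients of the operated rows -/
def QS (o : ℕ) : List ℕ := if o = 0 then QS0 else if o = 1 then QS1 else if o = 2 then QS2 else if o = 3 then QS3 else QS4

theorem okROWS : okR ROWS = true := by decide +kernel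

theorem okUR : okR UR = true := by decide +kernel

theorem lenROWS : ROWS.length ≤ 400 := by decide +kernel

theorem lenUR : UR.length ≤ 400 := by decide +kernel

theorem zip_mem {α β : Type} {l : List α} {m : List β} (h : l.length ≤ m.length) {a : α} (ha : a ∈ l) :
    ∃ b, (a, b) ∈ List.zip l m := by
  rw [← List.map_fst_zip h] at ha
  obtain ⟨p, hp, rfl⟩ := List.mem_map.1 ha
  exact ⟨p.2, hp⟩

theorem opC : ∀ o < 5, (List.zip ROWS (QS o)).all (fun p => memC ROWS p.2 (ro o p.1)) = true := by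
  decide +kernel

theorem lenQS : ∀ o < 5, ROWS.length ≤ (QS o).length := by decide +kernel

theorem dg_le {N : ℕ} (hN : N ∈ ROWS) {j : ℕ} (hj : j < 56) : dg N j ≤ 3 := (okR_sound okROWS).2 N hN j hj

theorem D4_comap {o : ℕ} (ho : o < 5) : D4 ≤ D4.comap (opH o) := by
  intro f hf i hi
  have h := hf (pm o i) (pm_lt ho hi)
  show (4 : ℤ) ∣ sv (sg o i) (f (pm o i))
  unfold sv
  split_ifs
  · exact h.neg_right
  · exact h

theorem T_op {o : ℕ} (ho : o < 5) {f : ℕ → ℤ} (hf : f ∈ T ROWS) : opH o f ∈ T ROWS := by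
  have h : T ROWS ≤ (T ROWS).comap (opH o) := by
    refine T_le (fun N hN => ?_) ((D4_comap ho).trans (AddSubgroup.comap_mono (D4_le _)))
    obtain ⟨q, hq⟩ := zip_mem (lenQS o ho) hN
    have h1 := List.all_eq_true.1 (opC o ho) _ hq
    refine memC_sound okROWS lenROWS h1 fun i hi => ?_
    show (4 : ℤ) ∣ sv (sg o i) (dg N (pm o i)) - (ro o N i : ℕ)
    have h2 := dg_le hN (pm_lt ho hi)
    unfold sv ro
    cases sg o i
    · simp
    · simp only [if_true, cond_true]
      push_cast [Nat.cast_sub (show dg N (pm o i) ≤ 4 by omega)]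
      omega
  exact h hf

/-- vectors whose coordinates are in the span -/
def LT : AddSubgroup RuVec where
  carrier := {x | cd x ∈ T ROWS}
  zero_mem' := by
    show cd 0 ∈ T ROWS
    rw [show cd 0 = 0 from funext cd_zero]
    exact zero_mem _
  add_mem' := fun {a b} ha hb => by
    show cd (a + b) ∈ T ROWS
    rw [show cd (a + b) = cd a + cd b from funext fun i => cd_add a b i]
    exact add_mem ha hb
  neg_mem' := fun {a} ha => by
    show cd (-a) ∈ T ROWS
    rw [show cd (-a) = -cd a from funext fun i => cd_neg a i]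
    exact neg_mem ha

theorem mem_LT {x : RuVec} : x ∈ LT ↔ cd x ∈ T ROWS := Iff.rfl

theorem T_congr {rows : List ℕ} {f g : ℕ → ℤ} (hf : f ∈ T rows) (h : ∀ i < 56, 4 ∣ g i - f i) : g ∈ T rows := by
  have : g = f + (g - f) := by abel
  rw [this]
  exact add_mem hf (D4_le _ h)

theorem op_LT {o : ℕ} (ho : o < 5) {x : RuVec} (hx : x ∈ LT) : op o x ∈ LT := by
  refine T_congr (T_op ho hx) fun i hi => ?_
  rw [cd_op o ho x hi]
  show (4 : ℤ) ∣ sv (sg o i) (cd x (pm o i)) - sv (sg o i) (cd x (pm o i))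
  simp

theorem tabR : ∀ t < 20, ∀ i < 56, (cd (ruTable.getD t 0) i - dg (TC.getD t (0, 0)).1 i) % 4 = 0 := by
  decide +kernel

theorem tabC : ∀ t < 20, memC ROWS (TC.getD t (0, 0)).2 (dg (TC.getD t (0, 0)).1) = true := by
  decide +kernel

theorem lenTab : ruTable.length = 20 := rfl

theorem tab_LT {v : RuVec} (hv : v ∈ ruTable) : v ∈ LT := by
  obtain ⟨t, ht, rfl⟩ := List.mem_iff_getElem.1 hv
  rw [lenTab] at ht
  refine memC_sound okROWS lenROWS (tabC t ht) fun i hi => ?_
  have h := tabR t ht i hi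
  rw [List.getD_eq_getElem _ _ (by rw [lenTab]; exact ht)] at h
  exact Int.dvd_of_emod_eq_zero h

theorem L_le : ruLattice ≤ LT := by
  refine sInf_le ⟨fun v hv => tab_LT hv, fun v hv => ⟨op_LT (o := 0) (by norm_num) hv, op_LT (o := 1) (by norm_num) hv,
    op_LT (o := 2) (by norm_num) hv, op_LT (o := 3) (by norm_num) hv, op_LT (o := 4) (by norm_num) hv⟩⟩

/-! ### rows in the lattice -/

theorem op_L (o : ℕ) {x : RuVec} (hx : x ∈ ruLattice) : op o x ∈ ruLattice := by
  rw [ruLattice, AddSubgroup.mem_sInf] at hx ⊢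
  intro A hA
  obtain ⟨h1, h2, h3, h4, h5⟩ := hA.2 x (hx A hA)
  match o with
  | 0 => exact h1
  | 1 => exact h2
  | 2 => exact h3
  | 3 => exact h4
  | (_ + 4) => exact h5

theorem tab_L {t : ℕ} (ht : t < 20) : ruTable.getD t 0 ∈ ruLattice := by
  rw [List.getD_eq_getElem _ _ (by rw [lenTab]; exact ht)]
  rw [ruLattice, AddSubgroup.mem_sInf]
  intro A hA
  exact hA.1 _ (List.getElem_mem _)

/-- word of operations -/
def opw (w : List ℕ) (x : RuVec) : RuVec := w.foldr op x

theorem opw_L (w : List ℕ) {x : RuVec} (hx : x ∈ ruLattice) : opw w x ∈ ruLattice := by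
  induction w with
  | nil => exact hx
  | cons o w ih => exact op_L o ih

/-- coordinates of an operated function -/
def rwz : List ℕ → (ℕ → ℤ) → ℕ → ℤ
  | [], f, i => f i
  | o :: w, f, i => sv (sg o i) (rwz w f (pm o i))

theorem cd_opw {w : List ℕ} (hw : ∀ o ∈ w, o < 5) (x : RuVec) {f : ℕ → ℤ} (hf : ∀ i < 56, cd x i = f i) {i : ℕ} (hi : i < 56) :
    cd (opw w x) i = rwz w f i := by
  induction w generalizing i with
  | nil => exact hf i hi
  | cons o w ih =>
    have ho := hw o (by simp)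
    show cd (op o (opw w x)) i = _
    rw [cd_op o ho _ hi, ih (fun a ha => hw a (by simp [ha])) (pm_lt ho hi)]
    rfl

/-- residues of an operated row -/
def rwn : List ℕ → ℕ → ℕ → ℕ
  | [], N, i => dg N i
  | o :: w, N, i => bif sg o i then 3 * rwn w N (pm o i) else rwn w N (pm o i)

theorem opw_mod {w : List ℕ} (hw : ∀ o ∈ w, o < 5) {x : RuVec} {N : ℕ} (hx : ∀ i < 56, (cd x i - dg N i) % 4 = 0)
    {i : ℕ} (hi : i < 56) : (cd (opw w x) i - rwn w N i) % 4 = 0 := by
  induction w generalizing i with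
  | nil => exact hx i hi
  | cons o w ih =>
    have ho := hw o (by simp)
    have h := ih (fun a ha => hw a (by simp [ha])) (pm_lt ho hi)
    show (cd (op o (opw w x)) i - _) % 4 = 0
    rw [cd_op o ho _ hi]
    unfold rwn sv
    cases sg o i
    · simpa using h
    · simp only [if_true, cond_true]
      push_cast
      omega

/-- functions giving lattice vectors -/
def LF : AddSubgroup (ℕ → ℤ) where
  carrier := {f | mkV f ∈ ruLattice}
  zero_mem' := by
    show mkV 0 ∈ ruLattice
    rw [show mkV 0 = 0 from cd_ext fun i hi => by rw [cd_mkV _ hi, cd_zero]; rfl]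
    exact zero_mem _
  add_mem' := fun {a b} ha hb => by
    show mkV (a + b) ∈ ruLattice
    rw [show mkV (a + b) = mkV a + mkV b from cd_ext fun i hi => by
      rw [cd_add, cd_mkV _ hi, cd_mkV _ hi, cd_mkV _ hi]; rfl]
    exact add_mem ha hb
  neg_mem' := fun {a} ha => by
    show mkV (-a) ∈ ruLattice
    rw [show mkV (-a) = -mkV a from cd_ext fun i hi => by
      rw [cd_neg, cd_mkV _ hi, cd_mkV _ hi]; rfl]
    exact neg_mem ha

theorem tab0 : ∀ i < 56, cd (ruTable.getD 0 0) i = if i = 0 then 4 else 0 := by decide +kernel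

theorem W4c : ∀ j < 56, (∀ o ∈ W4.getD j [], o < 5) ∧
    ((∀ i < 56, rwz (W4.getD j []) (fun i => if i = 0 then 4 else 0) i = if i = j then 4 else 0) ∨
    (∀ i < 56, rwz (W4.getD j []) (fun i => if i = 0 then 4 else 0) i = if i = j then -4 else 0)) := by decide +kernel

theorem four_mem {j : ℕ} (hj : j < 56) : (fun i => if i = j then (4 : ℤ) else 0) ∈ LF := by
  obtain ⟨h1, h2⟩ := W4c j hj
  have h3 := opw_L (W4.getD j []) (tab_L (t := 0) (by norm_num))
  rcases h2 with h2 | h2
  · have : mkV (fun i => if i = j then (4 : ℤ) else 0) = opw (W4.getD j []) (ruTable.getD 0 0) :=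
      cd_ext fun i hi => by rw [cd_mkV _ hi, cd_opw h1 _ tab0 hi, h2 i hi]
    show mkV _ ∈ ruLattice
    rw [this]
    exact h3
  · have : mkV (fun i => if i = j then (4 : ℤ) else 0) = -opw (W4.getD j []) (ruTable.getD 0 0) :=
      cd_ext fun i hi => by
        rw [cd_mkV _ hi, cd_neg, cd_opw h1 _ tab0 hi, h2 i hi]
        split_ifs <;> rfl
    show mkV _ ∈ ruLattice
    rw [this]
    exact neg_mem h3

theorem LF_congr {f g : ℕ → ℤ} (hf : f ∈ LF) (h : ∀ i < 56, g i = f i) : g ∈ LF := by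
  show mkV g ∈ ruLattice
  rw [show mkV g = mkV f from cd_ext fun i hi => by rw [cd_mkV _ hi, cd_mkV _ hi, h i hi]]
  exact hf

theorem D4_LF : D4 ≤ LF := by
  intro f hf
  have h1 : (∑ j ∈ range 56, (f j / 4) • (fun i => if i = j then (4 : ℤ) else 0)) ∈ LF :=
    sum_mem fun j hj => zsmul_mem (four_mem (mem_range.1 hj)) _
  refine LF_congr h1 fun i hi => ?_
  rw [Finset.sum_apply, Finset.sum_eq_single i]
  · have := hf i hi
    simp
    omega
  · intro j _ hj
    simp [Ne.symm hj]
  · intro h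
    exact absurd (mem_range.2 hi) h

theorem cd_LF {x : RuVec} (hx : x ∈ ruLattice) : cd x ∈ LF := by
  show mkV (cd x) ∈ ruLattice
  rw [mkV_cd]
  exact hx

theorem UCc : (List.zip UR UC).all (fun p => decide (p.2.1 < 20) && p.2.2.all (fun o => decide (o < 5)) &&
    allN (fun i => Nat.beq ((rwn p.2.2 (TC.getD p.2.1 (0, 0)).1 i + 3 * dg p.1 i) % 4) 0) 0 56) = true := by
  decide +kernel

theorem ECc : (List.zip ER EC).all (fun p => decide (p.2.1 < 20) && p.2.2.1.all (fun o => decide (o < 5)) &&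
    (fun S => allN (fun i => Nat.beq ((rwn p.2.2.1 (TC.getD p.2.1 (0, 0)).1 i + 3 * (dg p.1 i + dg S i)) % 4) 0) 0 56)
      (comb UR p.2.2.2)) = true := by
  decide +kernel

theorem lenUC : UR.length ≤ UC.length := by decide +kernel

theorem lenEC : ER.length ≤ EC.length := by decide +kernel

theorem U_LF {N : ℕ} (hN : N ∈ UR) : rowf N ∈ LF := by
  obtain ⟨⟨t, w⟩, hq⟩ := zip_mem lenUC hN
  have h1 := List.all_eq_true.1 UCc _ hq
  simp only [Bool.and_eq_true, decide_eq_true_eq] at h1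
  obtain ⟨⟨h2, h3⟩, h4⟩ := h1
  have h5 : ∀ o ∈ w, o < 5 := fun o ho => by simpa using List.all_eq_true.1 h3 o ho
  have h6 : cd (opw w (ruTable.getD t 0)) ∈ LF := cd_LF (opw_L w (tab_L h2))
  have h7 : rowf N = cd (opw w (ruTable.getD t 0)) + (rowf N - cd (opw w (ruTable.getD t 0))) := by abel
  rw [h7]
  refine add_mem h6 (D4_LF fun i hi => ?_)
  have h8 := opw_mod h5 (tabR t h2) hi
  have h9 := Nat.eq_of_beq_eq_true (allN_sound h4 i (Nat.zero_le _) (by omega))
  show (4 : ℤ) ∣ (dg N i : ℤ) - cd (opw w (ruTable.getD t 0)) i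
  have h10 : ((rwn w (TC.getD t (0, 0)).1 i + 3 * dg N i : ℕ) : ℤ) % 4 = 0 := by exact_mod_cast h9
  push_cast at h10
  omega

theorem TU_LF : T UR ≤ LF := T_le (fun _ hN => U_LF hN) D4_LF

theorem E_LF {N : ℕ} (hN : N ∈ ER) : rowf N ∈ LF := by
  obtain ⟨⟨t, w, q⟩, hq⟩ := zip_mem lenEC hN
  have h1 := List.all_eq_true.1 ECc _ hq
  simp only [Bool.and_eq_true, decide_eq_true_eq] at h1
  obtain ⟨⟨h2, h3⟩, h4⟩ := h1
  have h5 : ∀ o ∈ w, o < 5 := fun o ho => by simpa using List.all_eq_true.1 h3 o ho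
  have h6 : cd (opw w (ruTable.getD t 0)) ∈ LF := cd_LF (opw_L w (tab_L h2))
  have h11 : (fun j => (cdg UR q j : ℤ)) ∈ LF := TU_LF (cdg_mem UR q)
  have h7 : rowf N = (cd (opw w (ruTable.getD t 0)) - fun j => (cdg UR q j : ℤ)) +
      (rowf N - (cd (opw w (ruTable.getD t 0)) - fun j => (cdg UR q j : ℤ))) := by abel
  rw [h7]
  refine add_mem (sub_mem h6 h11) (D4_LF fun i hi => ?_)
  have h8 := opw_mod h5 (tabR t h2) hi
  have h9 := Nat.eq_of_beq_eq_true (allN_sound h4 i (Nat.zero_le _) (by omega))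
  rw [dg_comb okUR lenUR q hi] at h9
  show (4 : ℤ) ∣ (dg N i : ℤ) - (cd (opw w (ruTable.getD t 0)) i - (cdg UR q i : ℤ))
  have h10 : ((rwn w (TC.getD t (0, 0)).1 i + 3 * (dg N i + cdg UR q i) : ℕ) : ℤ) % 4 = 0 := by exact_mod_cast h9
  push_cast at h10
  omega

theorem T_LF : T ROWS ≤ LF := T_le (fun N hN => by
  rcases List.mem_append.1 hN with h | h
  · exact U_LF h
  · exact E_LF h) D4_LF

/-- **the lattice is the span of the rows** -/
theorem mem_L {x : RuVec} : x ∈ ruLattice ↔ cd x ∈ T ROWS := by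
  constructor
  · intro h
    exact L_le h
  · intro h
    have := T_LF h
    have h2 : mkV (cd x) ∈ ruLattice := this
    rwa [mkV_cd] at h2

end Cfsg.Agent.H90.RuL
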