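import Cfsg.Agent.H90.RuL.Vec2

/-!
The table of minimal vectors: linear functionals (owner: helper90).
-/

set_option autoImplicit false
set_option linter.unusedSimpArgs false
set_option maxHeartbeats 400000

namespace Cfsg.Agent.H90.RuL

open Cfsg.Spor Finset Cfsg.Agent.CosetEnum

local notation "sel(" c ", " a ", " b ")" => @Bool.rec (fun _ => Bool) b a c
local notation "seln(" c ", " a ", " b ")" => @Bool.rec (fun _ => Nat) b a c

/-! ### membership, norm -/

/-- vector of the table -/
noncomputable def vj (j : ℕ) : RuVec := vv (rowV PV j)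

/-- sums of digits and of their squares -/
noncomputable def sm (q c : Nat) : Nat := @Nat.rec (fun _ => Nat) 0 (fun n ih => Nat.add ih (dq q n)) c

/-- sum of squares of digits -/
noncomputable def sq (q c : Nat) : Nat := @Nat.rec (fun _ => Nat) 0 (fun n ih => Nat.add ih (Nat.mul (dq q n) (dq q n))) c

theorem sm_eq (q c : ℕ) : sm q c = ∑ i ∈ range c, dq q i := by
  induction c with
  | zero => rfl
  | succ n ih => rw [sum_range_succ, ← ih]; rfl

theorem sq_eq (q c : ℕ) : sq q c = ∑ i ∈ range c, dq q i * dq q i := by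
  induction c with
  | zero => rfl
  | succ n ih => rw [sum_range_succ, ← ih]; rfl

/-- the equation of the norm -/
noncomputable def eqn (a b : Nat) : Bool := Nat.beq (Nat.add a 896) (Nat.add (Nat.mul 8 b) 16)

theorem eqn_sound {a b : ℕ} (h : eqn a b = true) : a + 896 = 8 * b + 16 := Nat.eq_of_beq_eq_true h

/-- test of a digit -/
noncomputable def ds (a : Nat) : Bool := sel(Nat.beq a 0, false, sel(Nat.beq a 8, false, true))

theorem ds_sound {a : ℕ} (h : ds a = true) : a ≠ 0 ∧ a ≠ 8 := by
  obtain ⟨h6, h7⟩ := sel_ft h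
  obtain ⟨h8, _⟩ := sel_ft h7
  exact ⟨Nat.ne_of_beq_eq_false h6, Nat.ne_of_beq_eq_false h8⟩

/-- test of an index -/
noncomputable def is0 (j : Nat) (b : Bool) : Bool := sel(Nat.beq j 2770, true, b)

theorem is0_sound {j : ℕ} {b : Bool} (h : is0 j b = true) (hj : j ≠ 2770) : b = true := by
  unfold is0 at h
  have h5 : Nat.beq j 2770 = false := by
    cases h6 : Nat.beq j 2770
    · rfl
    · exact absurd (Nat.eq_of_beq_eq_true h6) hj
  rw [h5] at h
  exact h

/-- conjunction -/
noncomputable def andk (c a : Bool) : Bool := sel(c, a, false)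

theorem andk_sound {c a : Bool} (h : andk c a = true) : c = true ∧ a = true := sel_ff h

attribute [local irreducible] sq sm memC cd vv eqn ds is0 dq andk

/-- check of a vector of the table -/
noncomputable def chkW (w j : Nat) : Bool :=
  andk (memC ROWS (Nat.shiftRight w 224) (dq w)) (andk (eqn (sq w 56) (sm w 56)) (is0 j (ds (dq w 0))))

theorem chkW_mem {w j : ℕ} (h : chkW w j = true) : vv w ∈ ruLattice := by
  obtain ⟨h1, _⟩ := andk_sound h
  rw [mem_L]
  have h2 : vf w ∈ T ROWS := memC_sound okROWS lenROWS h1 (s := vf w) fun i hi => by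
    unfold vf
    exact ⟨-1, by ring⟩
  exact T_congr h2 fun i hi => by
    rw [cd_vv _ hi, sub_self]
    exact dvd_zero _

theorem chkW_norm {w j : ℕ} (h : chkW w j = true) : ruNorm (vv w) = 16 := by
  obtain ⟨_, h2⟩ := andk_sound h
  obtain ⟨h3, _⟩ := andk_sound h2
  have h6' := eqn_sound h3
  rw [sm_eq, sq_eq] at h6'
  rw [ruNorm_eq]
  have h5 : rip (vv w) (vv w) = ∑ i ∈ range 56, ((dq w i * dq w i : ℤ) - 8 * dq w i + 16) := by
    refine sum_congr rfl fun i hi => ?_
    rw [cd_vv _ (mem_range.1 hi)]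
    unfold vf
    ring
  rw [h5, sum_add_distrib, sum_sub_distrib, ← mul_sum]
  have h7 : ((∑ i ∈ range 56, dq w i * dq w i : ℕ) : ℤ) + 896 =
      8 * ((∑ i ∈ range 56, dq w i : ℕ) : ℤ) + 16 := by exact_mod_cast h6'
  push_cast at h7
  simp only [sum_const, card_range, nsmul_eq_mul]
  push_cast
  linarith

theorem chkW_ne {w j : ℕ} (h : chkW w j = true) (hj : j ≠ 2770) : cd (vv w) 0 ≠ 4 ∧ cd (vv w) 0 ≠ -4 := by
  obtain ⟨_, h2⟩ := andk_sound h
  obtain ⟨_, h4⟩ := andk_sound h2
  obtain ⟨h9, h10⟩ := ds_sound (is0_sound h4 hj)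
  rw [cd_vv _ (by norm_num)]
  unfold vf
  constructor <;> omega

/-- check of a vector of the table -/
noncomputable def chkV (j : Nat) : Bool := force (rowV PV j) fun w => chkW w j

theorem chkV_w {j : ℕ} (h : chkV j = true) : chkW (rowV PV j) j = true := by
  unfold chkV at h
  rwa [force_eq] at h

end Cfsg.Agent.H90.RuL
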