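import Cfsg.Agent.H90.RuL.Code
import Cfsg.Agent.H90.RuL.VData
import Cfsg.Agent.H90.RuL.MData

/-!
The table of minimal vectors: linear functionals (owner: helper90).
-/

set_option autoImplicit false
set_option linter.unusedSimpArgs false
set_option maxHeartbeats 400000

namespace Cfsg.Agent.H90.RuL

open Cfsg.Spor Finset Cfsg.Agent.CosetEnum

local notation "sel(" c ", " a ", " b ")" => @Bool.rec (fun _ => Bool) b a c
local notation "seln(" c ", " a ", " b ")" => @Bool.rec (fun _ => Nat) b a c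

/-- digit of 4 bits -/
def dq (q i : Nat) : Nat := Nat.land (Nat.shiftRight q (Nat.mul 4 i)) 15

theorem dq_le (q i : ℕ) : dq q i ≤ 15 := by
  unfold dq
  have : Nat.land (Nat.shiftRight q (Nat.mul 4 i)) 15 = (q >>> (4 * i)) &&& (2 ^ 4 - 1) := rfl
  rw [this, Nat.and_two_pow_sub_one_eq_mod]
  have := Nat.mod_lt (q >>> (4 * i)) (show 0 < 2 ^ 4 by norm_num)
  omega

theorem dq_sh (q i : ℕ) : dq (q >>> 4) i = dq q (i + 1) := by
  unfold dq
  show (q >>> 4 >>> (4 * i)) &&& 15 = (q >>> (4 * (i + 1))) &&& 15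
  rw [← Nat.shiftRight_add, show 4 + 4 * i = 4 * (i + 1) by ring]

/-- coordinates of a code -/
def vf (q : ℕ) (i : ℕ) : ℤ := (dq q i : ℤ) - 4

/-- vector of a code -/
def vv (q : ℕ) : RuVec := mkV (vf q)

theorem cd_vv (q : ℕ) {i : ℕ} (hi : i < 56) : cd (vv q) i = vf q i := cd_mkV _ hi

/-- linear combination with digits of 4 bits -/
noncomputable def comb4 (rows : List Nat) : Nat → Nat :=
  @List.rec Nat (fun _ => Nat → Nat) (fun _ => 0)
    (fun R _ ih q => Nat.add (Nat.mul (Nat.land q 15) R) (ih (Nat.shiftRight q 4))) rows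

theorem comb4_eq (rows : List ℕ) (q : ℕ) : comb4 rows q = ∑ i ∈ range rows.length, dq q i * rows.getD i 0 := by
  induction rows generalizing q with
  | nil => rfl
  | cons R rows ih =>
    have h : comb4 (R :: rows) q = Nat.land q 15 * R + comb4 rows (q >>> 4) := rfl
    rw [h, ih, List.length_cons, sum_range_succ']
    simp only [List.getD_cons_succ, List.getD_cons_zero, dq_sh]
    rw [add_comm]
    rfl

theorem dt_congr {f f' : ℕ → ℤ} (g : ℕ → ℤ) (h : ∀ i < 56, f i = f' i) : dt f g = dt f' g :=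
  sum_congr rfl fun i hi => by rw [h i (mem_range.1 hi)]

/-- a list of numbers represents a functional modulo `M` -/
structure Lin (RR : List ℕ) (K : ℕ) (ρ : ℕ → ℤ) (M : ℤ) : Prop where
  len : RR.length = 56
  c : ∀ i < 56, M ∣ (RR.getD i 0 : ℤ) - ρ i
  k : M ∣ (K : ℤ) + 4 * ∑ i ∈ range 56, ρ i

theorem Lin.eval {RR : List ℕ} {K : ℕ} {ρ : ℕ → ℤ} {M : ℤ} (h : Lin RR K ρ M) (q : ℕ) :
    M ∣ ((comb4 RR q + K : ℕ) : ℤ) - dt (vf q) ρ := by
  have h1 : ((comb4 RR q + K : ℕ) : ℤ) - dt (vf q) ρ =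
      ∑ i ∈ range 56, (dq q i : ℤ) * ((RR.getD i 0 : ℤ) - ρ i) + ((K : ℤ) + 4 * ∑ i ∈ range 56, ρ i) := by
    rw [comb4_eq, h.len]
    unfold dt vf
    push_cast
    rw [mul_sum]
    simp only [mul_sub, sub_mul, sum_sub_distrib]
    ring
  rw [h1]
  exact dvd_add (dvd_sum fun i hi => Dvd.dvd.mul_left (h.c i (mem_range.1 hi)) _) h.k

/-! ### units -/

/-- multiplication by powers of the imaginary unit -/
def un (u : ℕ) (x : RuVec) : RuVec := opw (List.replicate u 0) x

theorem un_zero (x : RuVec) : un 0 x = x := rfl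

theorem un_succ (u : ℕ) (x : RuVec) : un (u + 1) x = gI • un u x := rfl

theorem gI_sq (x : RuVec) : gI • gI • x = -x := by
  rw [smul_smul]
  have : gI * gI = -1 := by decide
  rw [this, neg_one_smul]

theorem un_add (u v : ℕ) (x : RuVec) : un (u + v) x = un u (un v x) := by
  induction u with
  | zero => rw [Nat.zero_add]; rfl
  | succ n ih => rw [Nat.add_right_comm, un_succ, ih, un_succ]

theorem un_two (x : RuVec) : un 2 x = -x := gI_sq x

theorem un_four (x : RuVec) : un 4 x = x := by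
  rw [show 4 = 2 + 2 from rfl, un_add, un_two, un_two, neg_neg]

theorem un_mod (u : ℕ) (x : RuVec) : un u x = un (u % 4) x := by
  have h : ∀ n v, un (v + 4 * n) x = un v x := by
    intro n
    induction n with
    | zero => intro v; rfl
    | succ n ih =>
      intro v
      rw [show v + 4 * (n + 1) = (v + 4 * n) + 4 by ring, un_add, un_four, ih]
  have h2 := h (u / 4) (u % 4)
  rw [Nat.mod_add_div] at h2
  exact h2

theorem un_L (u : ℕ) {x : RuVec} (hx : x ∈ ruLattice) : un u x ∈ ruLattice := opw_L _ hx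

theorem un_smul4 (u : ℕ) (c : ℤ) (x : RuVec) : un u (c • x) = c • un u x := by
  induction u with
  | zero => rfl
  | succ n ih => rw [un_succ, ih, un_succ, smul_comm]

/-- transposed multiplication by the imaginary unit -/
def it (g : ℕ → ℤ) (i : ℕ) : ℤ := if i % 2 = 0 then g (i + 1) else -g (i - 1)

theorem dt_I (x : RuVec) (g : ℕ → ℤ) : dt (cd (gI • x)) g = dt (cd x) (it g) := by
  unfold dt
  rw [show 56 = 2 * 28 from rfl, sum_pairs, sum_pairs]
  refine sum_congr rfl fun k hk => ?_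
  have hk := mem_range.1 hk
  have h1 : cd (gI • x) (2 * k) = -cd x (2 * k + 1) := by
    have h := cd_op 0 (by norm_num) x (i := 2 * k) (by omega)
    have h2 : sg 0 (2 * k) = true := by simp [sg]
    have h3 : pm 0 (2 * k) = 2 * k + 1 := by simp [pm]
    rw [h2, h3] at h
    exact h
  have h2 : cd (gI • x) (2 * k + 1) = cd x (2 * k) := by
    have h := cd_op 0 (by norm_num) x (i := 2 * k + 1) (by omega)
    have h2 : sg 0 (2 * k + 1) = false := by
      have : (2 * k + 1) % 2 = 1 := by omega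
      simp [sg, this]
    have h3 : pm 0 (2 * k + 1) = 2 * k := by
      have : (2 * k + 1) % 2 = 1 := by omega
      simp [pm, this]
    rw [h2, h3] at h
    exact h
  have h3 : it g (2 * k) = g (2 * k + 1) := by simp [it]
  have h4 : it g (2 * k + 1) = -g (2 * k) := by
    have : (2 * k + 1) % 2 = 1 := by omega
    simp [it, this]
  rw [h1, h2, h3, h4]
  ring

theorem dt_negl (x : RuVec) (g : ℕ → ℤ) : dt (cd (-x)) g = -dt (cd x) g := by
  rw [show cd (-x) = -cd x from funext fun i => cd_neg x i, dt_neg]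

/-! ### the packed coordinates -/

/-- the functional of packed coordinates -/
def pkf (i : ℕ) : ℤ := ((2 ^ (16 * i) : ℕ) : ℤ)

theorem pk_zero (n : ℕ) (z : ℕ → ℤ) (hz : ∀ j < n, |z j| < 32768)
    (h : ((2 ^ (16 * n) : ℕ) : ℤ) ∣ ∑ j ∈ range n, z j * pkf j) : ∀ j < n, z j = 0 := by
  induction n with
  | zero => intro j hj; omega
  | succ n ih =>
    rw [sum_range_succ] at h
    have h1 : ((2 ^ (16 * (n + 1)) : ℕ) : ℤ) = ((2 ^ (16 * n) : ℕ) : ℤ) * 65536 := by
      rw [show 16 * (n + 1) = 16 * n + 16 by ring, pow_add]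
      push_cast
      ring
    have h2 : ((2 ^ (16 * n) : ℕ) : ℤ) ∣ ∑ j ∈ range n, z j * pkf j := by
      have h3 : ((2 ^ (16 * n) : ℕ) : ℤ) ∣ ∑ j ∈ range n, z j * pkf j + z n * pkf n :=
        (Dvd.intro _ h1.symm).trans h
      exact (Int.dvd_add_left (Dvd.intro_left _ rfl)).1 h3
    have h4 := ih (fun j hj => hz j (by omega)) h2
    have h5 : ∑ j ∈ range n, z j * pkf j = 0 := sum_eq_zero fun j hj => by rw [h4 j (mem_range.1 hj), zero_mul]
    rw [h5, zero_add, h1] at h
    have hp : ((2 ^ (16 * n) : ℕ) : ℤ) ≠ 0 := by positivity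
    have h6 : (65536 : ℤ) ∣ z n := by
      have h7 : ((2 ^ (16 * n) : ℕ) : ℤ) * 65536 ∣ ((2 ^ (16 * n) : ℕ) : ℤ) * z n := by
        rw [show ((2 ^ (16 * n) : ℕ) : ℤ) * z n = z n * pkf n from mul_comm _ _]
        exact h
      exact (mul_dvd_mul_iff_left hp).1 h7
    have h8 := hz n (by omega)
    have h9 : z n = 0 := by
      rw [abs_lt] at h8
      omega
    intro j hj
    by_cases hjn : j = n
    · rw [hjn]; exact h9
    · exact h4 j (by omega)

/-! ### the map of a matrix -/

/-- the linear map with given columns -/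
def Phi (MC : List ℕ) (x : RuVec) : RuVec := ∑ i ∈ range 56, cd x i • vv (MC.getD i 0)

theorem cd_Phi (MC : List ℕ) (x : RuVec) {j : ℕ} (hj : j < 56) :
    cd (Phi MC x) j = ∑ i ∈ range 56, cd x i * vf (MC.getD i 0) j := by
  unfold Phi
  rw [cd_sum]
  exact sum_congr rfl fun i _ => by rw [cd_zsmul, cd_vv _ hj]

/-- the packed functional of a matrix -/
def rhoC (MC : List ℕ) (i : ℕ) : ℤ := ∑ j ∈ range 56, vf (MC.getD i 0) j * pkf j

/-- the packed functional of four times the coordinates -/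
def pkf4 (i : ℕ) : ℤ := 4 * pkf i

theorem vf_abs (q i : ℕ) : |vf q i| ≤ 11 := by
  have := dq_le q i
  unfold vf
  rw [abs_le]
  omega

theorem phi_eq {MC : List ℕ} {w : ℕ} {y : RuVec} (hy : ∀ j < 56, |cd y j| ≤ 11)
    (h : ((2 ^ (16 * 56) : ℕ) : ℤ) ∣ dt (vf w) (rhoC MC) - dt (cd y) pkf4) : Phi MC (vv w) = (4 : ℤ) • y := by
  have h1 : dt (vf w) (rhoC MC) - dt (cd y) pkf4 =
      ∑ j ∈ range 56, (cd (Phi MC (vv w)) j - 4 * cd y j) * pkf j := by
    unfold dt rhoC pkf4
    have h2 : ∑ i ∈ range 56, vf w i * ∑ j ∈ range 56, vf (MC.getD i 0) j * pkf j =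
        ∑ j ∈ range 56, cd (Phi MC (vv w)) j * pkf j := by
      simp only [mul_sum]
      rw [sum_comm]
      refine sum_congr rfl fun j hj => ?_
      rw [cd_Phi _ _ (mem_range.1 hj), sum_mul]
      refine sum_congr rfl fun i hi => ?_
      rw [cd_vv _ (mem_range.1 hi)]
      ring
    rw [h2, ← sum_sub_distrib]
    exact sum_congr rfl fun j _ => by ring
  rw [h1] at h
  have h3 := pk_zero 56 _ (fun j hj => ?_) h
  · refine cd_ext fun j hj => ?_
    have := h3 j hj
    rw [cd_zsmul]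
    omega
  · have h4 : |cd (Phi MC (vv w)) j| ≤ 56 * 121 := by
      rw [cd_Phi _ _ hj]
      refine (abs_sum_le_sum_abs _ _).trans ?_
      have h5 : ∑ i ∈ range 56, |cd (vv w) i * vf (MC.getD i 0) j| ≤ ∑ i ∈ range 56, (121 : ℤ) := by
        refine sum_le_sum fun i hi => ?_
        rw [abs_mul, cd_vv _ (mem_range.1 hi)]
        have h6 := vf_abs w i
        have h7 := vf_abs (MC.getD i 0) j
        nlinarith [abs_nonneg (vf w i), abs_nonneg (vf (MC.getD i 0) j)]
      simpa using h5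
    have h5 := hy j hj
    rw [abs_le] at h4 h5
    rw [abs_lt]
    omega

end Cfsg.Agent.H90.RuL
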