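import Cfsg.Agent.H90.RuL.Vec1

/-!
The table of minimal vectors: linear functionals (owner: helper90).
-/

set_option autoImplicit false
set_option linter.unusedSimpArgs false
set_option maxHeartbeats 400000

namespace Cfsg.Agent.H90.RuL

open Cfsg.Spor Finset Cfsg.Agent.CosetEnum

local notation "sel(" c ", " a ", " b ")" => @Bool.rec (fun _ => Bool) b a c
local notation "seln(" c ", " a ", " b ")" => @Bool.rec (fun _ => Nat) b a c

/-- the modulus -/
@[irreducible] def MM : ℕ := 2 ^ 896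

theorem MM_eq : ((2 ^ (16 * 56) : ℕ) : ℤ) = (MM : ℤ) := by
  unfold MM
  exact congrArg (fun n : ℕ => ((2 ^ n : ℕ) : ℤ)) (show 16 * 56 = 896 from rfl)

theorem force_eq (x : ℕ) (f : ℕ → Bool) : force x f = f x := by
  cases x <;> rfl

attribute [local irreducible] comb4 Phi dt cd vv un rhoC pkf4 PU0 PU1 KU0 KU1 force

/-- check of the image of a vector -/
noncomputable def eqv (CM : List Nat) (KF w w' : Nat) : Bool :=
  force (Nat.mod (Nat.add (comb4 CM w) KF) MM) fun F =>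
  force (Nat.mod (Nat.add (comb4 PU0 w') KU0) MM) fun G =>
    sel(Nat.beq F G, true, sel(Nat.beq (Nat.mod (Nat.add F G) MM) 0, true,
    force (Nat.mod (Nat.add (comb4 PU1 w') KU1) MM) fun G =>
      sel(Nat.beq F G, true, Nat.beq (Nat.mod (Nat.add F G) MM) 0)))

theorem sel_tt {c a : Bool} (h : sel(c, true, a) = true) : c = true ∨ a = true := by
  cases c
  · exact Or.inr h
  · exact Or.inl rfl

theorem cd_abs_I {x : RuVec} (h : ∀ j < 56, |cd x j| ≤ 11) : ∀ j < 56, |cd (gI • x) j| ≤ 11 := by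
  intro j hj
  have h1 := cd_op 0 (by norm_num) x hj
  have h2 : cd (gI • x) j = sv (sg 0 j) (cd x (pm 0 j)) := h1
  rw [h2]
  unfold sv
  split_ifs
  · rw [abs_neg]; exact h _ (pm_lt (by norm_num) hj)
  · exact h _ (pm_lt (by norm_num) hj)

theorem cd_abs_neg {x : RuVec} (h : ∀ j < 56, |cd x j| ≤ 11) : ∀ j < 56, |cd (-x) j| ≤ 11 := by
  intro j hj
  rw [cd_neg, abs_neg]
  exact h j hj

theorem dvd_of_mod {a b : ℕ} {x y : ℤ} {M : ℕ} (ha : (M : ℤ) ∣ (a : ℤ) - x) (hb : (M : ℤ) ∣ (b : ℤ) - y)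
    (h : a % M = b % M) : (M : ℤ) ∣ x - y := by
  have h1 : (M : ℤ) ∣ (a : ℤ) - b := by
    have h2 := (Int.emod_emod_of_dvd a (dvd_refl (M : ℤ)))
    have h3 : (a : ℤ) % M = (b : ℤ) % M := by exact_mod_cast h
    exact Int.dvd_of_emod_eq_zero (Int.emod_eq_emod_iff_emod_sub_eq_zero.1 h3)
  have : x - y = ((a : ℤ) - b) - ((a : ℤ) - x) + ((b : ℤ) - y) := by ring
  rw [this]
  exact dvd_add (dvd_sub h1 ha) hb

theorem dvd_of_mod_add {a b : ℕ} {x y : ℤ} {M : ℕ} (ha : (M : ℤ) ∣ (a : ℤ) - x) (hb : (M : ℤ) ∣ (b : ℤ) - y)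
    (h : (a % M + b % M) % M = 0) : (M : ℤ) ∣ x + y := by
  have h1 : (M : ℤ) ∣ (a : ℤ) + b := by
    rw [← Nat.add_mod] at h
    exact_mod_cast Nat.dvd_of_mod_eq_zero h
  have : x + y = ((a : ℤ) + b) - ((a : ℤ) - x) - ((b : ℤ) - y) := by ring
  rw [this]
  exact dvd_sub (dvd_sub h1 ha) hb

theorem eqv_sound {MC CM : List ℕ} {KF w w' : ℕ} (hC : Lin CM KF (rhoC MC) (MM : ℤ)) (h0 : Lin PU0 KU0 pkf4 (MM : ℤ))
    (h1 : Lin PU1 KU1 (it pkf4) (MM : ℤ)) (h : eqv CM KF w w' = true) : ∃ u, Phi MC (vv w) = (4 : ℤ) • un u (vv w') := by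
  unfold eqv at h
  rw [force_eq, force_eq] at h
  have hw : ∀ j < 56, |cd (vv w') j| ≤ 11 := fun j hj => by rw [cd_vv _ hj]; exact vf_abs _ _
  have e0 := h0.eval w'
  have eC := hC.eval w
  have e1 := h1.eval w'
  have c0 : dt (vf w') pkf4 = dt (cd (vv w')) pkf4 := dt_congr _ fun i hi => (cd_vv _ hi).symm
  have c1 : dt (vf w') (it pkf4) = dt (cd (vv w')) (it pkf4) := dt_congr _ fun i hi => (cd_vv _ hi).symm
  rw [c0] at e0
  rw [c1, ← dt_I] at e1
  rcases sel_tt h with h | h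
  · refine ⟨0, ?_⟩
    rw [un_zero]
    refine phi_eq hw ?_
    rw [MM_eq]
    exact dvd_of_mod eC e0 (Nat.eq_of_beq_eq_true h)
  rcases sel_tt h with h | h
  · refine ⟨2, ?_⟩
    rw [un_two]
    refine phi_eq (cd_abs_neg hw) ?_
    rw [MM_eq, dt_negl, sub_neg_eq_add]
    exact dvd_of_mod_add eC e0 (Nat.eq_of_beq_eq_true h)
  rw [force_eq] at h
  rcases sel_tt h with h | h
  · refine ⟨1, ?_⟩
    rw [un_succ, un_zero]
    refine phi_eq (cd_abs_I hw) ?_
    rw [MM_eq]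
    exact dvd_of_mod eC e1 (Nat.eq_of_beq_eq_true h)
  · refine ⟨3, ?_⟩
    rw [show 3 = 2 + 1 from rfl, un_add, un_two, un_succ, un_zero]
    refine phi_eq (cd_abs_neg (cd_abs_I hw)) ?_
    rw [MM_eq, dt_negl, sub_neg_eq_add]
    exact dvd_of_mod_add eC e1 (Nat.eq_of_beq_eq_true h)

end Cfsg.Agent.H90.RuL
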