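import Cfsg.Agent.H90.RuL.Code

/-! Enumeration of the minimal vectors, part 0 (owner: helper90). -/

set_option autoImplicit false
set_option maxRecDepth 1000000

namespace Cfsg.Agent.H90.RuL

theorem wk0 : Nat.beq (walk (UB.drop 4) 0x0) 1392 = true := by decide +kernel

theorem wk1 : Nat.beq (walk (UB.drop 4) 0x95590065000056) 1168 = true := by decide +kernel

theorem wk2 : Nat.beq (walk (UB.drop 4) 0x44141150054155) 1136 = true := by decide +kernel

theorem wk3 : Nat.beq (walk (UB.drop 4) 0xd14d1135054103) 1168 = true := by decide +kernel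

end Cfsg.Agent.H90.RuL
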