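import Cfsg.Agent.H90.RuL.Code

/-! Enumeration of the minimal vectors, part 1 (owner: helper90). -/

set_option autoImplicit false
set_option maxRecDepth 1000000

namespace Cfsg.Agent.H90.RuL

theorem wk4 : Nat.beq (walk (UB.drop 4) 0x21814809902455) 976 = true := by decide +kernel

theorem wk5 : Nat.beq (walk (UB.drop 4) 0xb4d8486c902403) 816 = true := by decide +kernel

theorem wk6 : Nat.beq (walk (UB.drop 4) 0x65955959956500) 720 = true := by decide +kernel

theorem wk7 : Nat.beq (walk (UB.drop 4) 0xf0cc593c956556) 816 = true := by decide +kernel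

end Cfsg.Agent.H90.RuL
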