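import Cfsg.Agent.H90.RuL.Code

/-! Enumeration of the minimal vectors, part 2 (owner: helper90). -/

set_option autoImplicit false
set_option maxRecDepth 1000000

namespace Cfsg.Agent.H90.RuL

theorem wk8 : Nat.beq (walk (UB.drop 4) 0x12428406601855) 1072 = true := by decide +kernel

theorem wk9 : Nat.beq (walk (UB.drop 4) 0x871b8463601803) 848 = true := by decide +kernel

theorem wk10 : Nat.beq (walk (UB.drop 4) 0x56569556655900) 688 = true := by decide +kernel

theorem wk11 : Nat.beq (walk (UB.drop 4) 0xc30f9533655956) 720 = true := by decide +kernel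

end Cfsg.Agent.H90.RuL
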