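import Cfsg.Agent.H90.RuL.Code

/-! Enumeration of the minimal vectors, part 3 (owner: helper90). -/

set_option autoImplicit false
set_option maxRecDepth 1000000

namespace Cfsg.Agent.H90.RuL

theorem wk12 : Nat.beq (walk (UB.drop 4) 0x33c3cc0ff03c00) 1168 = true := by decide +kernel

theorem wk13 : Nat.beq (walk (UB.drop 4) 0xa69acc6af03c56) 1008 = true := by decide +kernel

theorem wk14 : Nat.beq (walk (UB.drop 4) 0x77d7dd5ff57d55) 1296 = true := by decide +kernel

theorem wk15 : Nat.beq (walk (UB.drop 4) 0xe28edd3af57d03) 1136 = true := by decide +kernel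

end Cfsg.Agent.H90.RuL
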