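import Cfsg.Agent.H90.RuL.W0
import Cfsg.Agent.H90.RuL.W1
import Cfsg.Agent.H90.RuL.W2
import Cfsg.Agent.H90.RuL.W3

/-!
The total of the enumeration (owner: helper90).
-/

set_option autoImplicit false
set_option maxHeartbeats 400000

namespace Cfsg.Agent.H90.RuL

open Cfsg.Spor Finset

theorem walk4 (u0 u1 u2 u3 : ℕ) (r : List ℕ) : walk (u0 :: u1 :: u2 :: u3 :: r) 0 =
    walk r 0 + walk r (0 ^^^ u0) + walk r (0 ^^^ u1) + walk r (0 ^^^ u0 ^^^ u1) + walk r (0 ^^^ u2) + walk r (0 ^^^ u0 ^^^ u2) + walk r (0 ^^^ u1 ^^^ u2) + walk r (0 ^^^ u0 ^^^ u1 ^^^ u2) + walk r (0 ^^^ u3) + walk r (0 ^^^ u0 ^^^ u3) + walk r (0 ^^^ u1 ^^^ u3) + walk r (0 ^^^ u0 ^^^ u1 ^^^ u3) + walk r (0 ^^^ u2 ^^^ u3) + walk r (0 ^^^ u0 ^^^ u2 ^^^ u3) + walk r (0 ^^^ u1 ^^^ u2 ^^^ u3) + walk r (0 ^^^ u0 ^^^ u1 ^^^ u2 ^^^ u3) := by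
  simp only [walk_cons]
  ring

attribute [local irreducible] walk

theorem UB_cons : UB = 0x95590065000056 :: 0x44141150054155 :: 0x21814809902455 :: 0x12428406601855 :: UB.drop 4 := by decide +kernel

theorem evw0 : walk (UB.drop 4) 0 = 1392 := Nat.eq_of_beq_eq_true wk0

theorem evw1 : walk (UB.drop 4) (0 ^^^ 0x95590065000056) = 1168 := by
  rw [show 0 ^^^ 0x95590065000056 = 0x95590065000056 from by decide +kernel]
  exact Nat.eq_of_beq_eq_true wk1

theorem evw2 : walk (UB.drop 4) (0 ^^^ 0x44141150054155) = 1136 := by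
  rw [show 0 ^^^ 0x44141150054155 = 0x44141150054155 from by decide +kernel]
  exact Nat.eq_of_beq_eq_true wk2

theorem evw3 : walk (UB.drop 4) (0 ^^^ 0x95590065000056 ^^^ 0x44141150054155) = 1168 := by
  rw [show 0 ^^^ 0x95590065000056 ^^^ 0x44141150054155 = 0xd14d1135054103 from by decide +kernel]
  exact Nat.eq_of_beq_eq_true wk3

theorem evw4 : walk (UB.drop 4) (0 ^^^ 0x21814809902455) = 976 := by
  rw [show 0 ^^^ 0x21814809902455 = 0x21814809902455 from by decide +kernel]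
  exact Nat.eq_of_beq_eq_true wk4

theorem evw5 : walk (UB.drop 4) (0 ^^^ 0x95590065000056 ^^^ 0x21814809902455) = 816 := by
  rw [show 0 ^^^ 0x95590065000056 ^^^ 0x21814809902455 = 0xb4d8486c902403 from by decide +kernel]
  exact Nat.eq_of_beq_eq_true wk5

theorem evw6 : walk (UB.drop 4) (0 ^^^ 0x44141150054155 ^^^ 0x21814809902455) = 720 := by
  rw [show 0 ^^^ 0x44141150054155 ^^^ 0x21814809902455 = 0x65955959956500 from by decide +kernel]
  exact Nat.eq_of_beq_eq_true wk6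

theorem evw7 : walk (UB.drop 4) (0 ^^^ 0x95590065000056 ^^^ 0x44141150054155 ^^^ 0x21814809902455) = 816 := by
  rw [show 0 ^^^ 0x95590065000056 ^^^ 0x44141150054155 ^^^ 0x21814809902455 = 0xf0cc593c956556 from by decide +kernel]
  exact Nat.eq_of_beq_eq_true wk7

theorem evw8 : walk (UB.drop 4) (0 ^^^ 0x12428406601855) = 1072 := by
  rw [show 0 ^^^ 0x12428406601855 = 0x12428406601855 from by decide +kernel]
  exact Nat.eq_of_beq_eq_true wk8

theorem evw9 : walk (UB.drop 4) (0 ^^^ 0x95590065000056 ^^^ 0x12428406601855) = 848 := by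
  rw [show 0 ^^^ 0x95590065000056 ^^^ 0x12428406601855 = 0x871b8463601803 from by decide +kernel]
  exact Nat.eq_of_beq_eq_true wk9

theorem evw10 : walk (UB.drop 4) (0 ^^^ 0x44141150054155 ^^^ 0x12428406601855) = 688 := by
  rw [show 0 ^^^ 0x44141150054155 ^^^ 0x12428406601855 = 0x56569556655900 from by decide +kernel]
  exact Nat.eq_of_beq_eq_true wk10

theorem evw11 : walk (UB.drop 4) (0 ^^^ 0x95590065000056 ^^^ 0x44141150054155 ^^^ 0x12428406601855) = 720 := by
  rw [show 0 ^^^ 0x95590065000056 ^^^ 0x44141150054155 ^^^ 0x12428406601855 = 0xc30f9533655956 from by decide +kernel]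
  exact Nat.eq_of_beq_eq_true wk11

theorem evw12 : walk (UB.drop 4) (0 ^^^ 0x21814809902455 ^^^ 0x12428406601855) = 1168 := by
  rw [show 0 ^^^ 0x21814809902455 ^^^ 0x12428406601855 = 0x33c3cc0ff03c00 from by decide +kernel]
  exact Nat.eq_of_beq_eq_true wk12

theorem evw13 : walk (UB.drop 4) (0 ^^^ 0x95590065000056 ^^^ 0x21814809902455 ^^^ 0x12428406601855) = 1008 := by
  rw [show 0 ^^^ 0x95590065000056 ^^^ 0x21814809902455 ^^^ 0x12428406601855 = 0xa69acc6af03c56 from by decide +kernel]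
  exact Nat.eq_of_beq_eq_true wk13

theorem evw14 : walk (UB.drop 4) (0 ^^^ 0x44141150054155 ^^^ 0x21814809902455 ^^^ 0x12428406601855) = 1296 := by
  rw [show 0 ^^^ 0x44141150054155 ^^^ 0x21814809902455 ^^^ 0x12428406601855 = 0x77d7dd5ff57d55 from by decide +kernel]
  exact Nat.eq_of_beq_eq_true wk14

theorem evw15 : walk (UB.drop 4) (0 ^^^ 0x95590065000056 ^^^ 0x44141150054155 ^^^ 0x21814809902455 ^^^ 0x12428406601855) = 1136 := by
  rw [show 0 ^^^ 0x95590065000056 ^^^ 0x44141150054155 ^^^ 0x21814809902455 ^^^ 0x12428406601855 = 0xe28edd3af57d03 from by decide +kernel]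
  exact Nat.eq_of_beq_eq_true wk15

theorem walk_UB : walk UB 0 = 16128 := by
  rw [UB_cons, walk4, evw0, evw1, evw2, evw3, evw4, evw5, evw6, evw7, evw8, evw9, evw10, evw11, evw12, evw13, evw14, evw15]

end Cfsg.Agent.H90.RuL
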